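import Groth.Agent.L10.EtDescent.Extract
import Mathlib.AlgebraicGeometry.Limits
import Mathlib.CategoryTheory.Limits.Shapes.WidePullbacks
import Mathlib.Data.Fin.SuccPred

/-! The Čech datum of a morphism of schemes. -/

universe u

open CategoryTheory CategoryTheory.Limits AlgebraicGeometry Opposite

set_option autoImplicit false
set_option backward.isDefEq.respectTransparency false

namespace Groth.L10.EtDescent

variable {S X : Scheme.{u}} (f : X ⟶ S)

/-- powers -/
noncomputable abbrev wp (n : ℕ) : Scheme.{u} := widePullback S (fun _ : Fin n => X) (fun _ => f)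

/-- their structure maps -/
noncomputable abbrev wb (n : ℕ) : wp f n ⟶ S := WidePullback.base (fun _ : Fin n => f)

/-- their projections -/
noncomputable abbrev wπ (n : ℕ) (j : Fin n) : wp f n ⟶ X := WidePullback.π (fun _ : Fin n => f) j

/-- product with a power -/
noncomputable abbrev qo (n : ℕ) (T : Over S) : Over S := Over.mk (pullback.fst T.hom (wb f n) ≫ T.hom)

/-- the factors -/
noncomputable def qfst (n : ℕ) (T : Over S) : (qo f n T).left ⟶ T.left := pullback.fst T.hom (wb f n)

/-- the factors -/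
noncomputable def qπ (n : ℕ) (T : Over S) (j : Fin n) : (qo f n T).left ⟶ X :=
  pullback.snd T.hom (wb f n) ≫ wπ f n j

theorem qπ_f (n : ℕ) (T : Over S) (j : Fin n) : qπ f n T j ≫ f = qfst f n T ≫ T.hom := by
  simp only [qπ, Category.assoc, WidePullback.π_arrow (fun _ : Fin n => f) j]
  exact pullback.condition.symm

theorem qo_ext {n : ℕ} {T : Over S} {W : Scheme.{u}} {a b : W ⟶ (qo f n T).left}
    (h1 : a ≫ qfst f n T = b ≫ qfst f n T) (h2 : ∀ j, a ≫ qπ f n T j = b ≫ qπ f n T j) : a = b := by
  refine pullback.hom_ext h1 (WidePullback.hom_ext (fun _ : Fin n => f) _ _ (fun j => ?_) ?_)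
  · exact (Category.assoc _ _ _).trans ((h2 j).trans (Category.assoc _ _ _).symm)
  · erw [Category.assoc, Category.assoc, ← pullback.condition, ← Category.assoc, ← Category.assoc]
    exact congrArg (· ≫ T.hom) h1

/-- morphisms into a product with a power -/
noncomputable def qlift {n : ℕ} {T : Over S} {W : Scheme.{u}} (a : W ⟶ T.left) (x : Fin n → (W ⟶ X))
    (h : ∀ j, x j ≫ f = a ≫ T.hom) : W ⟶ (qo f n T).left :=
  pullback.lift a (WidePullback.lift (a ≫ T.hom) x h) (WidePullback.lift_base _ _ _ _).symm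

@[reassoc (attr := simp)]
theorem qlift_fst {n : ℕ} {T : Over S} {W : Scheme.{u}} (a : W ⟶ T.left) (x : Fin n → (W ⟶ X))
    (h : ∀ j, x j ≫ f = a ≫ T.hom) : qlift f a x h ≫ qfst f n T = a := pullback.lift_fst _ _ _

@[reassoc (attr := simp)]
theorem qlift_π {n : ℕ} {T : Over S} {W : Scheme.{u}} (a : W ⟶ T.left) (x : Fin n → (W ⟶ X))
    (h : ∀ j, x j ≫ f = a ≫ T.hom) (j : Fin n) : qlift f a x h ≫ qπ f n T j = x j :=
  (pullback.lift_snd_assoc _ _ _ _).trans (WidePullback.lift_π _ _ _ _ _)

/-- functoriality -/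
noncomputable def qmap (n : ℕ) {T T' : Over S} (a : T ⟶ T') : qo f n T ⟶ qo f n T' :=
  Over.homMk (qlift f (qfst f n T ≫ a.left) (qπ f n T) (fun j => by rw [qπ_f, Category.assoc, Over.w a]))
    (by
      change _ ≫ qfst f n T' ≫ T'.hom = qfst f n T ≫ T.hom
      rw [qlift_fst_assoc, Category.assoc, Over.w a])

@[reassoc (attr := simp)]
theorem qmap_fst (n : ℕ) {T T' : Over S} (a : T ⟶ T') : (qmap f n a).left ≫ qfst f n T' = qfst f n T ≫ a.left :=
  qlift_fst f _ _ _

@[reassoc (attr := simp)]
theorem qmap_π (n : ℕ) {T T' : Over S} (a : T ⟶ T') (j : Fin n) : (qmap f n a).left ≫ qπ f n T' j = qπ f n T j :=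
  qlift_π f _ _ _ j

/-- the functor -/
noncomputable def qF (n : ℕ) : Over S ⥤ Over S where
  obj := qo f n
  map := qmap f n
  map_id T := Over.OverMorphism.ext (qo_ext f (by simp) (fun j => by simp))
  map_comp a b := Over.OverMorphism.ext (qo_ext f (by simp) (fun j => by simp))

/-- omitting a factor -/
noncomputable def drop {n : ℕ} (i : Fin (n + 1)) (T : Over S) : qo f (n + 1) T ⟶ qo f n T :=
  Over.homMk (qlift f (qfst f (n + 1) T) (fun j => qπ f (n + 1) T (i.succAbove j)) (fun j => qπ_f f _ T _))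
    (qlift_fst_assoc f _ _ _ T.hom)

@[reassoc (attr := simp)]
theorem drop_fst {n : ℕ} (i : Fin (n + 1)) (T : Over S) : (drop f i T).left ≫ qfst f n T = qfst f (n + 1) T :=
  qlift_fst f _ _ _

@[reassoc (attr := simp)]
theorem drop_π {n : ℕ} (i : Fin (n + 1)) (T : Over S) (j : Fin n) :
    (drop f i T).left ≫ qπ f n T j = qπ f (n + 1) T (i.succAbove j) :=
  qlift_π f _ _ _ j

theorem drop_naturality {n : ℕ} (i : Fin (n + 1)) {T T' : Over S} (a : T ⟶ T') :
    qmap f (n + 1) a ≫ drop f i T' = drop f i T ≫ qmap f n a :=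
  Over.OverMorphism.ext (qo_ext f (by simp) (fun j => by simp))

theorem succAbove_comm {n : ℕ} {i j : Fin (n + 1)} (h : i ≤ j) (k : Fin n) :
    j.succ.succAbove (i.succAbove k) = i.castSucc.succAbove (j.succAbove k) := by
  simp only [Fin.succAbove, Fin.lt_def, Fin.val_castSucc, Fin.val_succ, apply_ite Fin.val, Fin.ext_iff]
  rw [Fin.le_def] at h
  split_ifs <;> simp at * <;> omega

theorem drop_comp {n : ℕ} {i j : Fin (n + 1)} (h : i ≤ j) (T : Over S) :
    drop f j.succ T ≫ drop f i T = drop f i.castSucc T ≫ drop f j T :=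
  Over.OverMorphism.ext (qo_ext f (by simp) (fun k => by simp [succAbove_comm h]))

variable (F : (Over S)ᵒᵖ ⥤ AddCommGrpCat.{u + 1})

/-- the coboundary -/
noncomputable def cob (p : ℕ) (T : Over S) : F.obj (op (qo f p T)) →+ F.obj (op (qo f (p + 1) T)) :=
  ∑ i : Fin (p + 1), (-1 : ℤ) ^ (i : ℕ) • (F.map (drop f i T).op).hom

theorem cob_apply (p : ℕ) (T : Over S) (x : F.obj (op (qo f p T))) :
    cob f F p T x = ∑ i : Fin (p + 1), (-1 : ℤ) ^ (i : ℕ) • F.map (drop f i T).op x := by
  simp [cob]

theorem cob_cob (p : ℕ) (T : Over S) (x : F.obj (op (qo f p T))) : cob f F (p + 1) T (cob f F p T x) = 0 := by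
  classical
  rw [cob_apply, cob_apply]
  simp only [map_sum, map_zsmul, Finset.smul_sum, smul_smul, ← Finset.sum_product']
  let P := Fin (p + 2) × Fin (p + 1)
  let Sset : Finset P := {ij : P | (ij.1 : ℕ) ≤ (ij.2 : ℕ)}
  show ∑ ij : P, ((-1 : ℤ) ^ (ij.1 : ℕ) * (-1) ^ (ij.2 : ℕ)) •
    F.map (drop f ij.1 T).op (F.map (drop f ij.2 T).op x) = 0
  rw [← Finset.sum_add_sum_compl Sset, ← eq_neg_iff_add_eq_zero, ← Finset.sum_neg_distrib]
  let φ : ∀ ij : P, ij ∈ Sset → P := fun ij hij =>
    (ij.2.succ, Fin.castLT ij.1 (lt_of_le_of_lt (Finset.mem_filter.mp hij).right (Fin.is_lt ij.2)))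
  apply Finset.sum_bij φ
  · intro ij hij
    simp_rw [Sset, φ, Finset.compl_filter, Finset.mem_filter_univ, Fin.val_succ, Fin.val_castLT] at hij ⊢
    omega
  · rintro ⟨i, j⟩ hij ⟨i', j'⟩ hij' h
    have h1 : j = j' := Fin.succ_inj.1 (congrArg Prod.fst h)
    have h2 : (i : ℕ) = i' := congrArg (fun a : P => (a.2 : ℕ)) h
    exact Prod.ext (Fin.ext h2) h1
  · rintro ⟨i', j'⟩ hij'
    simp_rw [Sset, Finset.compl_filter, Finset.mem_filter_univ, not_le] at hij'
    refine ⟨(Fin.castSucc j', i'.pred ?_), ?_, ?_⟩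
    · rintro rfl
      simp only [Fin.val_zero, not_lt_zero] at hij'
    · simp [Sset]; omega
    · simp only [φ, Fin.castLT_castSucc, Fin.succ_pred]
  · rintro ⟨i, j⟩ hij
    have hij' : (i : ℕ) ≤ (j : ℕ) := (Finset.mem_filter.mp hij).right
    let i' : Fin (p + 1) := i.castLT (lt_of_le_of_lt hij' j.is_lt)
    have e := drop_comp f (i := i') (j := j) (Fin.le_def.2 hij') T
    rw [show i'.castSucc = i from rfl] at e
    simp only [φ, Fin.val_succ, Fin.val_castLT]
    rw [← ConcreteCategory.comp_apply, ← ConcreteCategory.comp_apply, ← Functor.map_comp, ← Functor.map_comp,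
      ← op_comp, ← op_comp, ← neg_smul, e]
    congr 1
    ring

/-- the Čech datum -/
noncomputable def datum : Datum.{u + 1} (Over S) where
  Q := qF f
  δ F p T := cob f F p T
  δ_natF {F G} φ p T x := by
    show φ.app _ (cob f F p T x) = cob f G p T (φ.app _ x)
    rw [cob_apply, cob_apply, map_sum]
    refine Finset.sum_congr rfl fun i _ => ?_
    rw [map_zsmul]
    exact congrArg _ (NatTrans.naturality_apply φ (drop f i T).op x)
  δ_natT F p {T T'} a x := by
    show F.map (qmap f (p + 1) a).op (cob f F p T x) = cob f F p T' (F.map (qmap f p a).op x)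
    rw [cob_apply, cob_apply, map_sum]
    refine Finset.sum_congr rfl fun i _ => ?_
    rw [map_zsmul, ← ConcreteCategory.comp_apply, ← ConcreteCategory.comp_apply, ← Functor.map_comp,
      ← Functor.map_comp, ← op_comp, ← op_comp, drop_naturality]
  δ_δ F p T x := cob_cob f F p T x

/-- no factor -/
noncomputable def qZeroIso (T : Over S) : qo f 0 T ≅ T where
  hom := Over.homMk (qfst f 0 T) rfl
  inv := Over.homMk (qlift f (𝟙 T.left) Fin.elim0 (fun j => j.elim0))
    ((qlift_fst_assoc f _ _ _ T.hom).trans (Category.id_comp _))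
  hom_inv_id := Over.OverMorphism.ext (qo_ext f (by simp) (fun j => j.elim0))
  inv_hom_id := Over.OverMorphism.ext (by simp)

section Section

variable {T : Over S} (s : T.left ⟶ X) (hs : s ≫ f = T.hom)

/-- adding the factor given by a section -/
noncomputable def cons (p : ℕ) : qo f p T ⟶ qo f (p + 1) T :=
  Over.homMk (qlift f (qfst f p T) (Fin.cases (qfst f p T ≫ s) (qπ f p T)) (fun j => by
    induction j using Fin.cases with
    | zero => simp [hs]
    | succ j => simpa using qπ_f f p T j)) (qlift_fst_assoc f _ _ _ T.hom)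

@[reassoc (attr := simp)]
theorem cons_fst (p : ℕ) : (cons f s hs p).left ≫ qfst f (p + 1) T = qfst f p T := qlift_fst f _ _ _

@[reassoc (attr := simp)]
theorem cons_π_zero (p : ℕ) : (cons f s hs p).left ≫ qπ f (p + 1) T 0 = qfst f p T ≫ s := qlift_π f _ _ _ 0

@[reassoc (attr := simp)]
theorem cons_π_succ (p : ℕ) (j : Fin p) : (cons f s hs p).left ≫ qπ f (p + 1) T j.succ = qπ f p T j :=
  (qlift_π f _ _ _ j.succ).trans (Fin.cases_succ _)

theorem cons_drop_zero (p : ℕ) : cons f s hs p ≫ drop f 0 T = 𝟙 _ :=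
  Over.OverMorphism.ext (qo_ext f (by simp) (fun j => by simp))

theorem cons_drop_succ (p : ℕ) (i : Fin (p + 1)) :
    cons f s hs (p + 1) ≫ drop f i.succ T = drop f i T ≫ cons f s hs p := by
  refine Over.OverMorphism.ext (qo_ext f (by simp) (fun j => ?_))
  induction j using Fin.cases with
  | zero => simp
  | succ j => simp [Fin.succ_succAbove_succ]

include hs in
/-- the contraction given by a section, in degree zero -/
theorem cons_cob_zero (F : (Over S)ᵒᵖ ⥤ AddCommGrpCat.{u + 1}) (x : F.obj (op (qo f 0 T))) :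
    F.map (cons f s hs 0).op (cob f F 0 T x) = x := by
  rw [cob_apply, map_sum, Fin.sum_univ_one, map_zsmul, ← ConcreteCategory.comp_apply, ← Functor.map_comp, ← op_comp,
    cons_drop_zero]
  simp

include hs in
/-- the contraction given by a section -/
theorem cons_cob_succ (F : (Over S)ᵒᵖ ⥤ AddCommGrpCat.{u + 1}) (p : ℕ) (x : F.obj (op (qo f (p + 1) T))) :
    cob f F p T (F.map (cons f s hs p).op x) + F.map (cons f s hs (p + 1)).op (cob f F (p + 1) T x) = x := by
  rw [cob_apply, cob_apply, map_sum, Fin.sum_univ_succ (n := p + 1)]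
  simp only [map_zsmul, map_neg, ← ConcreteCategory.comp_apply, ← Functor.map_comp, ← op_comp, cons_drop_zero,
    cons_drop_succ, Fin.val_zero, pow_zero, one_smul, Fin.val_succ, pow_succ, mul_neg, mul_one, neg_smul,
    Finset.sum_neg_distrib, op_id, CategoryTheory.Functor.map_id]
  exact add_add_neg_cancel'_right _ _

include hs in
/-- a section gives exactness -/
theorem exactAtObj_of_section (Φ : CochainComplex ((Over S)ᵒᵖ ⥤ AddCommGrpCat.{u + 1}) ℤ) :
    ExactAtObj (totCx (datum f) Φ) T :=
  exactAtObj_of_contraction (datum f) Φ T (fun F p => (F.map (cons f s hs p).op).hom)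
    (fun φ p x => NatTrans.naturality_apply φ (cons f s hs p).op x)
    (fun F x => cons_cob_zero f s hs F x) (fun F p x => cons_cob_succ f s hs F p x)

end Section

section Interchange

variable {W : Scheme.{u}} (g : W ⟶ S)

theorem qfst_qfst (p q : ℕ) (T : Over S) (j : Fin p) :
    qπ f p (qo g q T) j ≫ f = qfst f p (qo g q T) ≫ qfst g q T ≫ T.hom := qπ_f f p _ j

/-- interchange of the factors -/
noncomputable def swapHom (p q : ℕ) (T : Over S) : qo f p (qo g q T) ⟶ qo g q (qo f p T) :=
  Over.homMk (qlift g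
      (qlift f (qfst f p (qo g q T) ≫ qfst g q T) (qπ f p (qo g q T))
        (fun j => (qfst_qfst f g p q T j).trans (Category.assoc _ _ _).symm))
      (fun j => qfst f p (qo g q T) ≫ qπ g q T j)
      (fun j => by
        show _ = _ ≫ qfst f p T ≫ T.hom
        rw [qlift_fst_assoc, Category.assoc, Category.assoc, qπ_f]))
    (by
      show _ ≫ qfst g q (qo f p T) ≫ qfst f p T ≫ T.hom = qfst f p (qo g q T) ≫ qfst g q T ≫ T.hom
      rw [qlift_fst_assoc, qlift_fst_assoc, Category.assoc])

@[reassoc (attr := simp)]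
theorem swapHom_fst_fst (p q : ℕ) (T : Over S) :
    (swapHom f g p q T).left ≫ qfst g q (qo f p T) ≫ qfst f p T = qfst f p (qo g q T) ≫ qfst g q T := by
  simp [swapHom]

@[reassoc (attr := simp)]
theorem swapHom_fst_π (p q : ℕ) (T : Over S) (j : Fin p) :
    (swapHom f g p q T).left ≫ qfst g q (qo f p T) ≫ qπ f p T j = qπ f p (qo g q T) j := by
  simp [swapHom]

@[reassoc (attr := simp)]
theorem swapHom_π (p q : ℕ) (T : Over S) (j : Fin q) :
    (swapHom f g p q T).left ≫ qπ g q (qo f p T) j = qfst f p (qo g q T) ≫ qπ g q T j := by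
  simp [swapHom]

theorem qoqo_ext {p q : ℕ} {T : Over S} {V : Scheme.{u}} {a b : V ⟶ (qo f p (qo g q T)).left}
    (h1 : a ≫ qfst f p (qo g q T) ≫ qfst g q T = b ≫ qfst f p (qo g q T) ≫ qfst g q T)
    (h2 : ∀ j, a ≫ qπ f p (qo g q T) j = b ≫ qπ f p (qo g q T) j)
    (h3 : ∀ j, a ≫ qfst f p (qo g q T) ≫ qπ g q T j = b ≫ qfst f p (qo g q T) ≫ qπ g q T j) : a = b :=
  qo_ext f (qo_ext g (by simpa using h1) (fun j => by simpa using h3 j)) h2

/-- interchange -/
noncomputable def swapIso (p q : ℕ) (T : Over S) : qo f p (qo g q T) ≅ qo g q (qo f p T) where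
  hom := swapHom f g p q T
  inv := swapHom g f q p T
  hom_inv_id := Over.OverMorphism.ext (qoqo_ext f g (by simp) (fun j => by simp) (fun j => by simp))
  inv_hom_id := Over.OverMorphism.ext (qoqo_ext g f (by simp) (fun j => by simp) (fun j => by simp))

theorem drop_swap (p q : ℕ) (T : Over S) (i : Fin (p + 1)) :
    swapHom f g (p + 1) q T ≫ qmap g q (drop f i T) = drop f i (qo g q T) ≫ swapHom f g p q T :=
  Over.OverMorphism.ext (qoqo_ext g f (by simp) (fun j => by simp) (fun j => by simp))

theorem compatD : CompatD (datum f) (datum g) (fun p q T => swapIso f g p q T) := by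
  intro F p q T x
  show F.map (swapHom f g (p + 1) q T).op (cob f (preQ (datum g) q F) p T x) =
    cob f F p (qo g q T) (F.map (swapHom f g p q T).op x)
  rw [cob_apply, cob_apply, map_sum]
  refine Finset.sum_congr rfl fun i _ => ?_
  rw [map_zsmul]
  show _ • F.map (swapHom f g (p + 1) q T).op (F.map (qmap g q (drop f i T)).op x) = _
  rw [← ConcreteCategory.comp_apply, ← ConcreteCategory.comp_apply, ← Functor.map_comp, ← Functor.map_comp,
    ← op_comp, ← op_comp, drop_swap]

theorem compatE : CompatE (datum f) (datum g) (fun p q T => swapIso f g p q T) :=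
  fun F p q T x => compatD g f F q p T x

end Interchange

section BaseChange

variable {S' : Scheme.{u}} (e : S' ⟶ S)

/-- base change of the products -/
noncomputable def bcIso (p : ℕ) (T : Over S') :
    qo f p ((Over.map e).obj T) ≅ (Over.map e).obj (qo (pullback.snd f e) p T) :=
  Over.isoMk
    { hom := qlift (pullback.snd f e) (qfst f p ((Over.map e).obj T))
        (fun j => pullback.lift (qπ f p ((Over.map e).obj T) j) (qfst f p ((Over.map e).obj T) ≫ T.hom)
          ((qπ_f f p _ j).trans (Category.assoc _ _ _).symm))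
        (fun j => pullback.lift_snd _ _ _)
      inv := qlift f (T := (Over.map e).obj T) (qfst (pullback.snd f e) p T)
        (fun j => qπ (pullback.snd f e) p T j ≫ pullback.fst f e)
        (fun j => by
          rw [Category.assoc, pullback.condition, ← Category.assoc, qπ_f]
          exact Category.assoc _ _ _)
      hom_inv_id := qo_ext f (by simp) (fun j => by simp)
      inv_hom_id := qo_ext _ (by simp) (fun j => by
        refine pullback.hom_ext ?_ ?_
        · simp
        · simp only [Category.id_comp, Category.assoc, qlift_π_assoc, pullback.lift_snd, qlift_fst_assoc]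
          exact (qπ_f (pullback.snd f e) p T j).symm) }
    (by
      show _ ≫ (qfst (pullback.snd f e) p T ≫ T.hom) ≫ e = qfst f p ((Over.map e).obj T) ≫ T.hom ≫ e
      exact (congrArg (_ ≫ ·) (Category.assoc _ _ _)).trans (qlift_fst_assoc _ _ _ _ _))

@[reassoc (attr := simp)]
theorem bcIso_fst (p : ℕ) (T : Over S') :
    (bcIso f e p T).hom.left ≫ qfst (pullback.snd f e) p T = qfst f p ((Over.map e).obj T) :=
  qlift_fst _ _ _ _

@[reassoc (attr := simp)]
theorem bcIso_π (p : ℕ) (T : Over S') (j : Fin p) :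
    (bcIso f e p T).hom.left ≫ qπ (pullback.snd f e) p T j ≫ pullback.fst f e = qπ f p ((Over.map e).obj T) j := by
  simp [bcIso]

/-- exactness after base change gives exactness -/
theorem exactAtObj_baseChange (Φ : CochainComplex ((Over S)ᵒᵖ ⥤ AddCommGrpCat.{u + 1}) ℤ) (T : Over S')
    (h : ExactAtObj (totCx (datum (pullback.snd f e)) (resCxP (Over.map e) Φ)) T) :
    ExactAtObj (totCx (datum f) Φ) ((Over.map e).obj T) := by
  refine exactAtObj_transfer (Over.map e) (datum f) (datum (pullback.snd f e)) Φ (fun p T => bcIso f e p T) ?_ T h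
  intro F p T x
  show F.map (bcIso f e (p + 1) T).hom.op (cob (pullback.snd f e) ((Over.map e).op ⋙ F) p T x) =
    cob f F p ((Over.map e).obj T) (F.map (bcIso f e p T).hom.op x)
  rw [cob_apply, cob_apply, map_sum]
  refine Finset.sum_congr rfl fun i _ => ?_
  rw [map_zsmul]
  show _ • F.map (bcIso f e (p + 1) T).hom.op (F.map ((Over.map e).map (drop (pullback.snd f e) i T)).op x) = _
  rw [← ConcreteCategory.comp_apply, ← ConcreteCategory.comp_apply, ← Functor.map_comp, ← Functor.map_comp,
    ← op_comp, ← op_comp]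
  have key : (bcIso f e (p + 1) T).hom ≫ (Over.map e).map (drop (pullback.snd f e) i T) =
      drop f i ((Over.map e).obj T) ≫ (bcIso f e p T).hom := by
    refine Over.OverMorphism.ext ?_
    refine qo_ext _ (by simp) (fun j => pullback.hom_ext (by simp) ?_)
    simp only [Category.assoc, qπ_f]
    simp
  rw [key]

end BaseChange

end Groth.L10.EtDescent
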