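import Groth.Agent.L23.BigSite.Finite
import Groth.Agent.L23.BigSite.SmallEtale
import Mathlib.Algebra.Homology.ShortComplex.PreservesHomology
import Mathlib.Algebra.Homology.Additive

/-! Big sheaves coming from the small étale site. -/

universe u

open CategoryTheory CategoryTheory.Limits AlgebraicGeometry Opposite

set_option autoImplicit false
set_option backward.isDefEq.respectTransparency false
set_option backward.isDefEq.respectTransparency.types false
set_option linter.style.haveILetI false

namespace Groth.L10.EtDescent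

local notation "Ke" => Scheme.etalePrecoverage

open Groth.L23.Big

variable {S T : Scheme.{u}}

/-- a big sheaf is the inverse image of its restriction to the small site -/
def InImg (G : BigSite.Ab Ke S) : Prop := IsIso ((BigSite.piEtAdj Ke S).counit.app G)

theorem inImg_piEtPull (F : EtCoh.Ab S) : InImg ((BigSite.piEtPull Ke S).obj F) := by
  haveI := isIso_unit_small S AddCommGrpCat.{u + 1}
  haveI : IsIso ((BigSite.piEtPull Ke S).map ((BigSite.piEtAdj Ke S).unit.app F)) := inferInstance
  haveI : IsIso ((BigSite.piEtPull Ke S).map ((BigSite.piEtAdj Ke S).unit.app F) ≫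
      (BigSite.piEtAdj Ke S).counit.app ((BigSite.piEtPull Ke S).obj F)) := by
    have e := (BigSite.piEtAdj Ke S).left_triangle_components F
    exact e ▸ inferInstanceAs (IsIso (𝟙 ((BigSite.piEtPull Ke S).obj F)))
  exact IsIso.of_isIso_comp_left ((BigSite.piEtPull Ke S).map ((BigSite.piEtAdj Ke S).unit.app F)) _

theorem InImg.of_iso {G G' : BigSite.Ab Ke S} (h : InImg G) (e : G ≅ G') : InImg G' := by
  haveI : IsIso ((BigSite.piEtAdj Ke S).counit.app G) := h
  have n := (BigSite.piEtAdj Ke S).counit.naturality e.hom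
  haveI : IsIso ((BigSite.resEt Ke S ⋙ BigSite.piEtPull Ke S).map e.hom ≫ (BigSite.piEtAdj Ke S).counit.app G') := by
    rw [n]
    exact inferInstanceAs (IsIso ((BigSite.piEtAdj Ke S).counit.app G ≫ e.hom))
  exact IsIso.of_isIso_comp_left ((BigSite.resEt Ke S ⋙ BigSite.piEtPull Ke S).map e.hom) _

/-- the presentation of a big sheaf from the small site -/
noncomputable def InImg.iso {G : BigSite.Ab Ke S} (h : InImg G) :
    (BigSite.piEtPull Ke S).obj ((BigSite.resEt Ke S).obj G) ≅ G :=
  @asIso _ _ _ _ ((BigSite.piEtAdj Ke S).counit.app G) h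

theorem inImg_homology {ι : Type*} {c : ComplexShape ι} (C : HomologicalComplex (BigSite.Ab Ke S) c)
    (h : ∀ i, InImg (C.X i)) (n : ι) : InImg (C.homology n) := by
  haveI := preservesFiniteLimits_piEtPull Ke S
  haveI : (BigSite.piEtPull Ke S).Additive := (BigSite.piEtAdj Ke S).left_adjoint_additive
  let P := BigSite.resEt Ke S ⋙ BigSite.piEtPull Ke S
  haveI : P.Additive := inferInstanceAs (BigSite.resEt Ke S ⋙ BigSite.piEtPull Ke S).Additive
  haveI : PreservesFiniteLimits P := comp_preservesFiniteLimits _ _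
  haveI : PreservesFiniteColimits P := comp_preservesFiniteColimits _ _
  let e : (P.mapHomologicalComplex c).obj C ≅ C :=
    HomologicalComplex.Hom.isoOfComponents (fun i => (h i).iso)
      (fun i j _ => ((BigSite.piEtAdj Ke S).counit.naturality (C.d i j)).symm)
  exact (inImg_piEtPull _).of_iso (((C.sc n).mapHomologyIso P).symm ≪≫
    (HomologicalComplex.homologyFunctor _ c n).mapIso e)

/-- the two base changes of étale schemes -/
noncomputable def cUIso (f : T ⟶ S) : EtFppf.a S ⋙ Over.pullback f ≅ EtCoh.bc f ⋙ EtFppf.a T :=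
  NatIso.ofComponents (fun U => Over.isoMk (Iso.refl _) (Category.id_comp _))
    (fun {U V} b => by
      refine Over.OverMorphism.ext ((Category.comp_id _).trans (Eq.trans ?_ (Category.id_comp _).symm))
      refine pullback.hom_ext ?_ ?_
      · refine (pullback.lift_fst _ _ _).trans ?_
        exact (EtCoh.isPullback_bc_map f b).w.symm
      · refine (pullback.lift_snd _ _ _).trans ?_
        exact (MorphismProperty.Over.w ((EtCoh.bc f).map b)).symm)

/-- direct images commute with restriction to the small sites -/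
noncomputable def pushResIso (f : T ⟶ S) :
    BigSite.pushBig Ke f AddCommGrpCat.{u + 1} ⋙ BigSite.resEt Ke S ≅ BigSite.resEt Ke T ⋙ EtCoh.push f :=
  NatIso.ofComponents (fun G => (fullyFaithfulSheafToPresheaf _ _).preimageIso
    (Functor.isoWhiskerRight (NatIso.op (cUIso f)).symm G.obj)) fun {F G} φ => by
  refine (sheafToPresheaf _ _).map_injective ?_
  rw [Functor.map_comp, Functor.map_comp, Functor.FullyFaithful.preimageIso_hom,
    Functor.FullyFaithful.preimageIso_hom, Functor.FullyFaithful.map_preimage, Functor.FullyFaithful.map_preimage]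
  ext V x
  exact ConcreteCategory.congr_hom (φ.hom.naturality _).symm x

/-- inverse images commute with extension to the big sites -/
noncomputable def pullPiIso (f : T ⟶ S) :
    BigSite.piEtPull Ke S ⋙ BigSite.pullBig Ke f AddCommGrpCat.{u + 1} ≅
      EtCoh.pull f ⋙ BigSite.piEtPull Ke T :=
  Adjunction.leftAdjointUniq
    (((BigSite.piEtAdj Ke S).comp (BigSite.bigAdj Ke f AddCommGrpCat.{u + 1})).ofNatIsoRight (pushResIso f))
    ((EtCoh.pullPushAdj f).comp (BigSite.piEtAdj Ke T))

theorem inImg_pullBig (f : T ⟶ S) {G : BigSite.Ab Ke S} (h : InImg G) :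
    InImg ((BigSite.pullBig Ke f AddCommGrpCat.{u + 1}).obj G) :=
  (inImg_piEtPull _).of_iso (((pullPiIso f).app ((BigSite.resEt Ke S).obj G)).symm ≪≫
    (BigSite.pullBig Ke f AddCommGrpCat.{u + 1}).mapIso h.iso)

theorem inImg_pushBig (f : T ⟶ S) [IsFinite f] {G : BigSite.Ab Ke T} (h : InImg G) :
    InImg ((BigSite.pushBig Ke f AddCommGrpCat.{u + 1}).obj G) :=
  (inImg_piEtPull _).of_iso (piEtPullGIso _ ≪≫ @asIso _ _ _ _ (cmp f ((BigSite.resEt Ke T).obj G)) (isIso_cmp f _) ≪≫
    (BigSite.pushBig Ke f AddCommGrpCat.{u + 1}).mapIso ((piEtPullGIso _).symm ≪≫ h.iso))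

theorem isZero_Rpush_inImg (f : T ⟶ S) [IsFinite f] {G : BigSite.Ab Ke T} (h : InImg G) (q : ℕ) (hq : 0 < q) :
    IsZero ((BigSite.RpushBig Ke f q).obj G) :=
  IsZero.of_iso (((BigSite.piEtPull Ke S).map_isZero (Groth.Agent.S0071.result f _ q hq)).of_iso
    (nonempty_piEtPull_Rpush_finite f ((BigSite.resEt Ke T).obj G) q).some.symm)
    ((BigSite.RpushBig Ke f q).mapIso h.iso).symm

theorem isZero_of_isZero_piEtPull (F : EtCoh.Ab S) (h : IsZero ((BigSite.piEtPull Ke S).obj F)) : IsZero F := by
  haveI := isIso_unit_small S AddCommGrpCat.{u + 1}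
  exact IsZero.of_iso ((BigSite.resEt Ke S).map_isZero h) (asIso ((BigSite.piEtAdj Ke S).unit.app F))

end Groth.L10.EtDescent
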