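import Groth.Agent.L10.EtDescent.TotSh
import Groth.Agent.L10.EtDescent.Img
import Groth.Agent.L10.Descent.EtMonad

/-! Descent along finite surjective morphisms on the big étale site. -/

universe u

open CategoryTheory CategoryTheory.Limits AlgebraicGeometry Opposite

set_option autoImplicit false
set_option backward.defeqAttrib.useBackward true
set_option backward.isDefEq.respectTransparency false
set_option backward.isDefEq.respectTransparency.types false
set_option linter.style.haveILetI false

namespace Groth.L10.EtDescent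

local notation "Ke" => Scheme.etalePrecoverage

variable {S W : Scheme.{u}} (h : W ⟶ S)

theorem isFinite_wb [IsFinite h] : ∀ p : ℕ, IsFinite (wb h p)
  | 0 => by
    haveI : IsIso (wb h 0) := ⟨WidePullback.lift (𝟙 S) Fin.elim0 (fun j => j.elim0),
      WidePullback.hom_ext (fun _ : Fin 0 => h) _ _ (fun j => j.elim0)
        ((Category.assoc _ _ _).trans ((congrArg (_ ≫ ·) (WidePullback.lift_base _ _ _ _)).trans
          ((Category.comp_id _).trans (Category.id_comp _).symm))),
      WidePullback.lift_base _ _ _ _⟩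
    infer_instance
  | 1 => by
    show IsFinite (Groth.L10.EtMonad.fpBase h 0)
    rw [show Groth.L10.EtMonad.fpBase h 0 = (Groth.L10.EtMonad.fpZeroIso h).hom ≫ h from
      (WidePullback.π_arrow (fun _ : Fin 1 => h) 0).symm]
    infer_instance
  | n + 2 => by
    haveI : IsFinite (Groth.L10.EtMonad.fpBase h n) := isFinite_wb (n + 1)
    show IsFinite (Groth.L10.EtMonad.fpBase h (n + 1))
    rw [← Groth.L10.EtMonad.fpSuccIso_fst h n]
    infer_instance

/-- a column as a functor -/
noncomputable def colFun (p : ℕ) : BigSite.Ab Ke S ⥤ BigSite.Ab Ke S where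
  obj := colSh h p
  map φ := ⟨Functor.whiskerLeft ((datum h).Q p).op φ.hom⟩

/-- a column is a direct image of an inverse image, naturally -/
noncomputable def colIso (p : ℕ) :
    BigSite.pullBig Ke (wb h p) AddCommGrpCat.{u + 1} ⋙ BigSite.pushBig Ke (wb h p) AddCommGrpCat.{u + 1} ≅
      colFun h p :=
  NatIso.ofComponents (colShIso h p) fun {F G} φ => by
    refine (sheafToPresheaf _ _).map_injective ?_
    simp only [Functor.map_comp]
    rw [show colShIso h p F = (fullyFaithfulSheafToPresheaf _ _).preimageIso _ from rfl,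
      show colShIso h p G = (fullyFaithfulSheafToPresheaf _ _).preimageIso _ from rfl,
      Functor.FullyFaithful.preimageIso_hom, Functor.FullyFaithful.preimageIso_hom,
      Functor.FullyFaithful.map_preimage, Functor.FullyFaithful.map_preimage]
    ext V x
    exact ConcreteCategory.congr_hom (φ.hom.naturality _).symm x

instance additive_colFun (p : ℕ) : (colFun h p).Additive := Functor.additive_of_iso (colIso h p)

theorem exists_preimage_sec {Sh : ShortComplex (BigSite.Ab Ke S)} (hS : Sh.Exact) [Mono Sh.f] (T : Over S)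
    (x : Sh.X₂.obj.obj (op T)) (hx : Sh.g.hom.app (op T) x = 0) :
    ∃ y : Sh.X₁.obj.obj (op T), Sh.f.hom.app (op T) y = x := by
  obtain ⟨k, hk⟩ := exists_kernel_sec Sh.g T x hx
  let l := kernel.lift Sh.g Sh.f Sh.zero
  haveI : Epi l := Sh.exact_iff_epi_kernel_lift.1 hS
  haveI : Mono (l ≫ kernel.ι Sh.g) := by rw [kernel.lift_ι]; infer_instance
  haveI : Mono l := mono_of_mono l (kernel.ι Sh.g)
  haveI : IsIso l := isIso_of_mono_of_epi l
  refine ⟨(inv l).hom.app (op T) k, ?_⟩
  rw [← hk]
  exact ConcreteCategory.congr_hom (congrArg (fun φ : kernel Sh.g ⟶ Sh.X₂ => φ.hom.app (op T))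
    ((IsIso.inv_comp_eq l).2 (kernel.lift_ι Sh.g Sh.f Sh.zero).symm)) k

/-- the coboundary as a map of sheaves -/
noncomputable def cobSh (p : ℕ) (G : BigSite.Ab Ke S) : colSh h p G ⟶ colSh h (p + 1) G :=
  ⟨{ app := fun T => AddCommGrpCat.ofHom ((datum h).δ G.obj p T.unop)
     naturality := fun T T' a => AddCommGrpCat.hom_ext (AddMonoidHom.ext fun x =>
       ((datum h).δ_natT G.obj p a.unop x).symm) }⟩

/-- the Čech complex of a sheaf -/
noncomputable def cechSh (G : BigSite.Ab Ke S) : CochainComplex (BigSite.Ab Ke S) ℕ :=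
  CochainComplex.of (fun p => colSh h p G) (fun p => cobSh h p G)
    (fun p => Sheaf.hom_ext (NatTrans.ext (funext fun T => AddCommGrpCat.hom_ext (AddMonoidHom.ext fun x =>
      (datum h).δ_δ G.obj p T.unop x))))

theorem cechSh_d_app (G : BigSite.Ab Ke S) (p : ℕ) (T : Over S) (x : G.obj.obj (op (qo h p T))) :
    ((cechSh h G).d p (p + 1)).hom.app (op T) x = cob h G.obj p T x := by
  simp [cechSh]
  rfl

theorem exactAt_cechSh [IsFinite h] [Surjective h] {G : BigSite.Ab Ke S} (hG : InImg G) (p : ℕ) :
    (cechSh h G).ExactAt p := by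
  have hX : ∀ q, InImg ((cechSh h G).X q) := fun q =>
    haveI := isFinite_wb h q
    (inImg_pushBig _ (inImg_pullBig (wb h q) hG)).of_iso ((colIso h q).app G)
  have hH := inImg_homology (cechSh h G) hX p
  rw [HomologicalComplex.exactAt_iff_isZero_homology]
  let P := BigSite.pullBig Ke h AddCommGrpCat.{u + 1}
  haveI : PreservesFiniteLimits P := inferInstance
  haveI : PreservesFiniteColimits P := inferInstance
  have h0 : ((P.mapHomologicalComplex _).obj (cechSh h G)).ExactAt p := by
    cases p with
    | zero =>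
      rw [HomologicalComplex.exactAt_iff' _ 0 0 1 (by simp) (by simp), exact_iff_locally]
      intro T z hz
      refine ⟨⊤, GrothendieckTopology.top_mem _ T, fun T' a _ => ⟨0, ?_⟩⟩
      have hz' : cob h G.obj 0 ((Over.map h).obj T) z = 0 := (cechSh_d_app h G 0 _ z).symm.trans hz
      have e := cons_cob_zero h (T := (Over.map h).obj T) T.hom rfl G.obj z
      rw [hz', map_zero] at e
      subst e
      exact (map_zero _).trans (map_zero _).symm
    | succ k =>
      rw [HomologicalComplex.exactAt_iff' _ k (k + 1) (k + 2) (by simp) (by simp), exact_iff_locally]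
      intro T z hz
      refine ⟨⊤, GrothendieckTopology.top_mem _ T, fun T' a _ =>
        ⟨(colSh h k G).obj.map ((Over.map h).map a).op
          (G.obj.map (cons h (T := (Over.map h).obj T) T.hom rfl k).op z), ?_⟩⟩
      have hz' : cob h G.obj (k + 1) ((Over.map h).obj T) z = 0 := (cechSh_d_app h G (k + 1) _ z).symm.trans hz
      have e := cons_cob_succ h (T := (Over.map h).obj T) T.hom rfl G.obj k z
      rw [hz', map_zero, add_zero] at e
      refine (NatTrans.naturality_apply ((cechSh h G).d k (k + 1)).hom ((Over.map h).map a).op _).trans ?_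
      exact congrArg _ ((cechSh_d_app h G k _ _).trans e)
  have hz : IsZero (P.obj ((cechSh h G).homology p)) :=
    (h0.isZero_homology).of_iso (((cechSh h G).sc p).mapHomologyIso P).symm
  have h1 := isZero_of_isZero_piEtPull _ ((hz.of_iso (P.mapIso hH.iso)).of_iso
    ((pullPiIso h).app ((BigSite.resEt Ke S).obj ((cechSh h G).homology p))).symm)
  exact (((BigSite.piEtPull Ke S).map_isZero (Groth.L10.EtMonad.isZero_of_isZero_pull h _ h1))).of_iso hH.iso.symm

section Resolution

variable {G : BigSite.Ab Ke S} (R : InjectiveResolution G)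

/-- the augmentation -/
noncomputable def aug : G ⟶ R.cochainComplex.X 0 := R.ι.f 0 ≫ (R.cochainComplexXIso 0 0 rfl).inv

instance mono_aug : Mono (aug R) := by unfold aug; infer_instance

theorem aug_d : aug R ≫ R.cochainComplex.d 0 1 = 0 := by
  have e : R.ι.f 0 ≫ R.cocomplex.d 0 1 = 0 := by
    rw [R.ι.comm 0 1]; simp
  rw [aug, R.cochainComplex_d 0 1 0 1 rfl rfl]
  simp [reassoc_of% e]

theorem exact_aug : (ShortComplex.mk (aug R) (R.cochainComplex.d 0 1) (aug_d R)).Exact := by
  refine (ShortComplex.exact_iff_of_iso ?_).1 R.exact₀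
  exact ShortComplex.isoMk (Iso.refl _) (R.cochainComplexXIso 0 0 rfl).symm (R.cochainComplexXIso 1 1 rfl).symm
    (by simp [aug]) (by simp [R.cochainComplex_d 0 1 0 1 rfl rfl])

theorem exactAt_col [IsFinite h] (hG : InImg G) (p : ℕ) (j : ℤ) (hj : 1 ≤ j) :
    (((colFun h p).mapHomologicalComplex (ComplexShape.up ℤ)).obj R.cochainComplex).ExactAt j := by
  haveI := isFinite_wb h p
  obtain ⟨k, rfl⟩ : ∃ k : ℕ, j = (k : ℤ) + 1 := ⟨(j - 1).toNat, by omega⟩
  let b := wb h p
  let P := BigSite.pullBig Ke b AddCommGrpCat.{u + 1}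
  let F := P ⋙ BigSite.pushBig Ke b AddCommGrpCat.{u + 1}
  have h0 : IsZero ((F.rightDerived (k + 1)).obj G) :=
    (isZero_Rpush_inImg b (inImg_pullBig b hG) (k + 1) (by omega)).of_iso
      (Groth.L23.Big.nonempty_rightDerived_comm F (BigSite.pushBig Ke b AddCommGrpCat.{u + 1}) P (𝟭 _)
        (Functor.rightUnitor _) G (k + 1)).some
  have h1 : ((F.mapHomologicalComplex _).obj R.cocomplex).ExactAt (k + 1) :=
    (HomologicalComplex.exactAt_iff_isZero_homology _ _).2 (h0.of_iso (R.isoRightDerivedObj F (k + 1)).symm)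
  rw [HomologicalComplex.exactAt_iff' _ k (k + 1) (k + 2) (by simp) (by simp)] at h1
  rw [HomologicalComplex.exactAt_iff' _ (k : ℤ) ((k : ℤ) + 1) ((k : ℤ) + 2) (by simp) (by simp; omega)]
  refine (ShortComplex.exact_iff_of_iso ?_).1 h1
  refine ShortComplex.isoMk
    ((colIso h p).app _ ≪≫ (colFun h p).mapIso (R.cochainComplexXIso (k : ℤ) k rfl).symm)
    ((colIso h p).app _ ≪≫ (colFun h p).mapIso (R.cochainComplexXIso ((k : ℤ) + 1) (k + 1) (by simp)).symm)
    ((colIso h p).app _ ≪≫ (colFun h p).mapIso (R.cochainComplexXIso ((k : ℤ) + 2) (k + 2) (by simp)).symm) ?_ ?_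
  · simp only [Iso.trans_hom, Iso.app_hom, Functor.mapIso_hom, Iso.symm_hom, HomologicalComplex.shortComplexFunctor'_obj_f,
      Functor.mapHomologicalComplex_obj_d, Category.assoc, ← Functor.map_comp,
      R.cochainComplex_d (k : ℤ) ((k : ℤ) + 1) k (k + 1) rfl (by simp), Iso.inv_hom_id_assoc]
    simp
  · simp only [Iso.trans_hom, Iso.app_hom, Functor.mapIso_hom, Iso.symm_hom, HomologicalComplex.shortComplexFunctor'_obj_g,
      Functor.mapHomologicalComplex_obj_d, Category.assoc, ← Functor.map_comp,
      R.cochainComplex_d ((k : ℤ) + 1) ((k : ℤ) + 2) (k + 1) (k + 2) (by simp) (by simp), Iso.inv_hom_id_assoc]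
    simp

end Resolution

end Groth.L10.EtDescent
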