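import Mathlib.AlgebraicGeometry.Morphisms.Finite
import Mathlib.AlgebraicGeometry.Morphisms.Etale
import Mathlib.AlgebraicGeometry.Morphisms.UniversallyOpen
import Mathlib.AlgebraicGeometry.PullbackCarrier

/-! A finite piece with open image gives a finite surjective refinement. -/

universe u

open CategoryTheory CategoryTheory.Limits AlgebraicGeometry TopologicalSpace

set_option autoImplicit false
set_option linter.style.haveILetI false
set_option backward.isDefEq.respectTransparency.types false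

namespace Groth.L10.EtDescent

theorem exists_refinement_of_piece {X Y V P : Scheme.{u}} (f : X ⟶ Y) (y : Y) (e : V ⟶ Y) [Etale e]
    (u : V) (hu : e u = y) (π : P ⟶ V) (k : P ⟶ X) (hk : k ≫ f = π ≫ e) (W : P.Opens) [IsFinite (W.ι ≫ π)]
    (O : V.Opens) (huO : u ∈ O) (hO : ∀ v ∈ O, ∃ w ∈ W, π w = v) :
    ∃ (S' : Scheme.{u}) (e' : S' ⟶ Y) (_ : Etale e') (_ : y ∈ Set.range e'.base)
      (W' : Scheme.{u}) (h : W' ⟶ S') (_ : IsFinite h) (_ : Surjective h) (k' : W' ⟶ X), k' ≫ f = h ≫ e' := by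
  let m := W.ι ≫ π
  haveI : Etale (O.ι ≫ e) := inferInstance
  haveI : IsFinite (m ∣_ O) := IsZariskiLocalAtTarget.restrict (P := @IsFinite) ‹IsFinite (W.ι ≫ π)› O
  haveI : Surjective (m ∣_ O) := ⟨fun v => by
    obtain ⟨w, hw, hwv⟩ := hO v.1 v.2
    refine ⟨⟨⟨w, hw⟩, show π w ∈ O by rw [hwv]; exact v.2⟩, ?_⟩
    apply Subtype.ext
    rw [morphismRestrict_base]
    exact hwv⟩
  refine ⟨O.toScheme, O.ι ≫ e, inferInstance, ⟨⟨u, huO⟩, hu⟩, _, m ∣_ O, inferInstance, inferInstance,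
    (m ⁻¹ᵁ O).ι ≫ W.ι ≫ k, ?_⟩
  rw [morphismRestrict_ι_assoc, Category.assoc, Category.assoc, hk]
  simp [m]

end Groth.L10.EtDescent
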