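import Groth.Agent.L10.EtDescent.Coh

/-! The descent spectral sequence from exactness of the augmented Čech complex. -/

universe u

open CategoryTheory CategoryTheory.Limits CategoryTheory.Abelian AlgebraicGeometry Opposite

set_option autoImplicit false
set_option backward.defeqAttrib.useBackward true
set_option backward.isDefEq.respectTransparency false
set_option backward.isDefEq.respectTransparency.types false
set_option linter.style.haveILetI false

namespace Groth.L10.EtDescent

local notation "Ke" => Scheme.etalePrecoverage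

open Groth.L17.SpecObj (Hij coe_le_succ pageTwoIso)

variable {X Y : Scheme.{u}}

/-- a product with a power over the base is the power -/
noncomputable def qoTopIso (f : X ⟶ Y) (n : ℕ) : qo f n (Over.mk (𝟙 Y)) ≅ Over.mk (wb f n) :=
  haveI : IsIso (pullback.snd (Over.mk (𝟙 Y)).hom (wb f n)) := inferInstanceAs (IsIso (pullback.snd (𝟙 Y) (wb f n)))
  Over.isoMk (asIso (pullback.snd (Over.mk (𝟙 Y)).hom (wb f n))) pullback.condition.symm

theorem exists_spectralSequence (f : X ⟶ Y) (F : EtCoh.Ab Y)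
    (hloc : ∀ y : Y, ∃ (S' : Scheme.{u}) (e : S' ⟶ Y) (_ : Etale e) (_ : y ∈ Set.range e.base)
      (W : Scheme.{u}) (h : W ⟶ S') (_ : IsFinite h) (_ : Surjective h) (k : W ⟶ X), k ≫ f = h ≫ e) :
    ∃ (E : CohomologicalSpectralSequence AddCommGrpCat.{u + 1} 1)
      (a : SpSeq.Abutment E (fun n : ℤ =>
        if 0 ≤ n then AddCommGrpCat.of (EtCoh.H Y F n.toNat) else AddCommGrpCat.of PUnit.{u + 2})),
      (∀ n, a.IsFinite n) ∧ SpSeq.IsBounded E ∧
      ∀ p q : ℤ, Nonempty ((E.page 1 le_rfl).X (p, q) ≅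
        (if 0 ≤ p ∧ 0 ≤ q then
          AddCommGrpCat.of (EtCoh.H (widePullback Y (fun _ : Fin (p.toNat + 1) => X) (fun _ => f))
            ((EtCoh.pull (WidePullback.base (fun _ : Fin (p.toNat + 1) => f) :
              widePullback Y (fun _ : Fin (p.toNat + 1) => X) (fun _ => f) ⟶ Y)).obj F) q.toNat)
         else AddCommGrpCat.of PUnit.{u + 2})) := by
  let G := (BigSite.piEtPull Ke Y).obj F
  let R := injectiveResolution G
  let T : Over Y := Over.mk (𝟙 Y)
  have hex := exactAtObj_descent R (inImg_piEtPull F) f hloc T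
  let Φ := preCx R.cochainComplex
  let P := totFil (datum f) Φ T
  have hl := isLowBounded_totFil (datum f) Φ T (fun j hj =>
    (sheafToPresheaf _ _).map_isZero (R.cochainComplex.isZero_of_isStrictlyGE 0 j hj))
  have hh := isHighBounded_totFil (datum f) Φ T
  have hη : ∀ n : ℤ, Nonempty ((if 0 ≤ n then AddCommGrpCat.of (EtCoh.H Y F n.toNat)
      else AddCommGrpCat.of PUnit.{u + 2}) ≅ Hij P.specObj n (bot_le : ⊥ ≤ (⊤ : EInt))) := fun n => by
    obtain ⟨e⟩ := nonempty_top_iso (datum f) Φ T hex n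
    let e' := e ≪≫ (HomologicalComplex.homologyFunctor _ _ n).mapIso (atObjIso Φ (qZeroIso f T)).symm
    by_cases hn : 0 ≤ n
    · obtain ⟨m, rfl⟩ := Int.eq_ofNat_of_zero_le hn
      rw [if_pos hn]
      obtain ⟨d⟩ := nonempty_etale_homology_id R m
      exact ⟨(e' ≪≫ d).symm⟩
    · rw [if_neg hn]
      exact ⟨(AddCommGrpCat.isZero_of_subsingleton _).iso
        (IsZero.of_iso (isZero_sections_homology R T n (by omega)) e')⟩
  let η := fun n => (hη n).some
  obtain ⟨a, ha⟩ := Groth.L17.SpecObj.exists_abutment (Y := P.specObj) η hl hh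
  obtain ⟨a', ha', hb'⟩ := Groth.L10.Descent.exists_decalage _ a ha (Groth.L17.SpecObj.isBounded hl hh)
  refine ⟨_, a', ha', hb', fun p q => ?_⟩
  by_cases hp : 0 ≤ p
  · obtain ⟨m, rfl⟩ := Int.eq_ofNat_of_zero_le hp
    obtain ⟨d⟩ := nonempty_graded_iso (datum f) Φ T m (2 * (m : ℤ) + q + -(m : ℤ)) q (by ring)
    let e' := pageTwoIso (2 * (m : ℤ) + q) (-(m : ℤ)) ≪≫ d ≪≫
      (HomologicalComplex.homologyFunctor _ _ q).mapIso (atObjIso Φ (qoTopIso f (m + 1))).symm
    by_cases hq : 0 ≤ q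
    · obtain ⟨k, rfl⟩ := Int.eq_ofNat_of_zero_le hq
      rw [if_pos ⟨hp, hq⟩]
      obtain ⟨c⟩ := nonempty_etale_homology R (wb f (m + 1)) k
      exact ⟨e' ≪≫ c⟩
    · rw [if_neg (fun h => hq h.2)]
      exact ⟨(IsZero.of_iso (isZero_sections_homology R _ q (by omega)) e').iso
        (AddCommGrpCat.isZero_of_subsingleton _)⟩
  · rw [if_neg (fun h => hp h.1)]
    exact ⟨(IsZero.of_iso (isZero_high (datum f) Φ T (-p) (by omega) _) (pageTwoIso (2 * p + q) (-p))).iso
      (AddCommGrpCat.isZero_of_subsingleton _)⟩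

end Groth.L10.EtDescent
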