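import Groth.Agent.L10.Descent.Decalage
import Groth.Agent.L17.SpecObjHom
import Groth.Agent.L17.HomDerived
import Mathlib.Algebra.Homology.HomotopyCategory.SpectralObject
import Mathlib.Algebra.Homology.HomotopyCategory.HomologicalFunctor
import Mathlib.Algebra.Homology.HomotopyCategory.ShortExact
import Mathlib.Algebra.Category.Grp.EpiMono
import Mathlib.Algebra.Category.Grp.Zero
import Mathlib.Algebra.Homology.ShortComplex.Ab

/-! The spectral object of a filtration by subcomplexes of a complex of abelian groups. -/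

universe w

open CategoryTheory CategoryTheory.Limits CategoryTheory.Abelian

set_option backward.defeqAttrib.useBackward true
set_option backward.isDefEq.respectTransparency false
set_option autoImplicit false
set_option linter.style.haveILetI false

namespace Groth.L10.EtDescent

/-- a filtration by subcomplexes -/
structure Fil (K : CochainComplex AddCommGrpCat.{w} ℤ) where
  sub : EInt → ∀ n : ℤ, AddSubgroup (K.X n)
  mem_d : ∀ (i : EInt) (n m : ℤ) (z : K.X n), z ∈ sub i n → K.d n m z ∈ sub i m
  mono : ∀ {i j : EInt}, i ≤ j → ∀ n, sub i n ≤ sub j n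

namespace Fil

variable {K : CochainComplex AddCommGrpCat.{w} ℤ} (P : Fil K)

/-- a step -/
noncomputable def cx (i : EInt) : CochainComplex AddCommGrpCat.{w} ℤ where
  X n := AddCommGrpCat.of (P.sub i n)
  d n m := AddCommGrpCat.ofHom (((K.d n m).hom.comp (P.sub i n).subtype).codRestrict (P.sub i m)
    fun z => P.mem_d i n m z.1 z.2)
  shape n m h := by
    apply AddCommGrpCat.hom_ext
    refine AddMonoidHom.ext fun z => Subtype.ext ?_
    exact ConcreteCategory.congr_hom (K.shape n m h) z.1
  d_comp_d' n m k _ _ := by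
    apply AddCommGrpCat.hom_ext
    refine AddMonoidHom.ext fun z => Subtype.ext ?_
    exact ConcreteCategory.congr_hom (K.d_comp_d n m k) z.1

/-- inclusion of steps -/
noncomputable def incl {i j : EInt} (h : i ≤ j) : P.cx i ⟶ P.cx j where
  f n := AddCommGrpCat.ofHom (AddSubgroup.inclusion (P.mono h n))
  comm' n m _ := by ext z; rfl

/-- the filtration as a functor -/
noncomputable def functor : EInt ⥤ CochainComplex AddCommGrpCat.{w} ℤ where
  obj := P.cx
  map f := P.incl (leOfHom f)
  map_id i := by ext n z; rfl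
  map_comp f g := by ext n z; rfl

/-- its spectral object -/
noncomputable def specObj : Abelian.SpectralObject AddCommGrpCat.{w} EInt :=
  Groth.L17.SpecObj.mapHomological
    ((HomotopyCategory.spectralObjectMappingCone AddCommGrpCat.{w}).precomp P.functor)
    (HomotopyCategory.homologyFunctor AddCommGrpCat.{w} (.up ℤ) 0)

/-- the short complex of two steps -/
noncomputable def ses {i j : EInt} (h : i ≤ j) : ShortComplex (CochainComplex AddCommGrpCat.{w} ℤ) :=
  ShortComplex.mk (P.incl h) (cokernel.π (P.incl h)) (cokernel.condition _)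

theorem ses_shortExact {i j : EInt} (h : i ≤ j) : (P.ses h).ShortExact := by
  have : ∀ n, Mono ((P.incl h).f n) := fun n =>
    (AddCommGrpCat.mono_iff_injective _).2 fun a b hab => Subtype.ext (congrArg Subtype.val hab :)
  have : Mono (P.ses h).f := HomologicalComplex.mono_of_mono_f _ this
  have : Epi (P.ses h).g := inferInstanceAs (Epi (cokernel.π (P.incl h)))
  exact { exact := ShortComplex.exact_cokernel _ }

/-- pieces of the spectral object -/
theorem nonempty_Hij_iso {i j : EInt} (h : i ≤ j) (n : ℤ) :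
    Nonempty (Groth.L17.SpecObj.Hij P.specObj n h ≅ (cokernel (P.incl h)).homology n) := by
  have := CochainComplex.mappingCone.quasiIso_descShortComplex (P.ses_shortExact h)
  refine ⟨?_ ≪≫ asIso (HomologicalComplex.homologyMap (CochainComplex.mappingCone.descShortComplex (P.ses h)) n)⟩
  exact (HomotopyCategory.homologyFunctorFactors AddCommGrpCat.{w} (.up ℤ) n).app _

theorem isZero_Hij {i j : EInt} (h : i ≤ j) (n : ℤ) (hsurj : ∀ z ∈ P.sub j n, z ∈ P.sub i n) :
    IsZero (Groth.L17.SpecObj.Hij P.specObj n h) := by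
  obtain ⟨e⟩ := P.nonempty_Hij_iso h n
  refine IsZero.of_iso ?_ e
  rw [← HomologicalComplex.exactAt_iff_isZero_homology]
  refine ShortComplex.exact_of_isZero_X₂ _ ?_
  change IsZero ((cokernel (P.incl h)).X n)
  have : Epi ((P.incl h).f n) := (AddCommGrpCat.epi_iff_surjective _).2 fun z => ⟨⟨z.1, hsurj z.1 z.2⟩, rfl⟩
  have h0 : (P.incl h).f n ≫ (cokernel.π (P.incl h)).f n = 0 := by
    rw [← HomologicalComplex.comp_f, cokernel.condition]; rfl
  exact IsZero.of_epi_eq_zero _ ((cancel_epi ((P.incl h).f n)).1 (h0.trans comp_zero.symm))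

theorem isZero_cx_bot (hbot : ∀ n, ∀ z ∈ P.sub ⊥ n, z = 0) : IsZero (P.cx ⊥) := by
  refine (IsZero.iff_id_eq_zero _).2 ?_
  ext n : 1
  apply AddCommGrpCat.hom_ext
  exact AddMonoidHom.ext fun z => Subtype.ext (hbot n z.1 z.2)

theorem nonempty_top_iso (hbot : ∀ n, ∀ z ∈ P.sub ⊥ n, z = 0) (n : ℤ) :
    Nonempty (Groth.L17.SpecObj.Hij P.specObj n (bot_le : ⊥ ≤ (⊤ : EInt)) ≅ (P.cx ⊤).homology n) := by
  obtain ⟨e⟩ := P.nonempty_Hij_iso (bot_le : ⊥ ≤ (⊤ : EInt)) n
  have h0 : P.incl (bot_le : ⊥ ≤ (⊤ : EInt)) = 0 := (P.isZero_cx_bot hbot).eq_of_src _ _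
  exact ⟨e ≪≫ (HomologicalComplex.homologyFunctor _ _ n).mapIso (cokernelIsoOfEq h0 ≪≫ cokernelZeroIsoTarget)⟩

/-- a quotient of two steps given by a surjective map -/
theorem nonempty_Hij_iso_of_shortExact {i j : EInt} (h : i ≤ j) (L : CochainComplex AddCommGrpCat.{w} ℤ)
    (φ : P.cx j ⟶ L) (w : P.incl h ≫ φ = 0) (hφ : (ShortComplex.mk _ _ w).ShortExact) (n : ℤ) :
    Nonempty (Groth.L17.SpecObj.Hij P.specObj n h ≅ L.homology n) := by
  obtain ⟨e⟩ := P.nonempty_Hij_iso h n
  exact ⟨e ≪≫ (HomologicalComplex.homologyFunctor _ _ n).mapIso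
    ((cokernelIsCokernel (P.incl h)).coconePointUniqueUpToIso hφ.gIsCokernel)⟩

end Fil

end Groth.L10.EtDescent
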