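import Groth.Agent.L10.EtDescent.Tot
import Groth.Agent.L10.EtDescent.FilCx
import Mathlib.Algebra.Homology.HomologySequence
import Mathlib.Algebra.Homology.HomotopyCategory.ShiftSequence
import Mathlib.Algebra.Homology.ShortComplex.Ab

/-! The filtration of the non augmented total complex and its graded pieces. -/

universe w v u

open CategoryTheory CategoryTheory.Limits Opposite

set_option autoImplicit false
set_option backward.defeqAttrib.useBackward true
set_option backward.isDefEq.respectTransparency false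
set_option linter.style.haveILetI false

namespace Groth.L10.EtDescent

variable {C : Type u} [Category.{v} C] (D : Datum.{w} C) (Φ : CochainComplex (Cᵒᵖ ⥤ AddCommGrpCat.{w}) ℤ) (T : C)

/-- the complex of sections over an object -/
noncomputable abbrev atObj (U : C) : CochainComplex AddCommGrpCat.{w} ℤ :=
  (((evaluation Cᵒᵖ AddCommGrpCat.{w}).obj (op U)).mapHomologicalComplex (ComplexShape.up ℤ)).obj Φ

/-- the shifted total complex over an object -/
noncomputable def fullCx : CochainComplex AddCommGrpCat.{w} ℤ :=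
  CochainComplex.of (fun n => AddCommGrpCat.of (TotX D Φ (n + 1) T)) (fun n => AddCommGrpCat.ofHom (totD D Φ (n + 1) T))
    (fun n => AddCommGrpCat.hom_ext (AddMonoidHom.ext fun z => totD_totD D Φ (n + 1) T z))

theorem fullCx_d (n : ℤ) (z : TotX D Φ (n + 1) T) :
    (fullCx D Φ T).d n (n + 1) z = totD D Φ (n + 1) T z := by
  simp [fullCx]

theorem exactAt_fullCx (h : ExactAtObj (totCx D Φ) T) (n : ℤ) : (fullCx D Φ T).ExactAt n := by
  obtain ⟨m, rfl⟩ : ∃ m, n = m + 1 := ⟨n - 1, by omega⟩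
  rw [HomologicalComplex.exactAt_iff' _ m (m + 1) (m + 1 + 1) (by simp) (by simp), ShortComplex.ab_exact_iff]
  intro z hz
  obtain ⟨y, hy⟩ := (exactAtObj_totCx_iff D Φ T).1 h (m + 1) z ((fullCx_d D Φ T (m + 1) z).symm.trans hz)
  exact ⟨y, (fullCx_d D Φ T m y).trans hy⟩

theorem le_coe (a b : ℤ) : (a : EInt) ≤ (b : EInt) ↔ a ≤ b := by simp

/-- the filtration by the number of factors -/
noncomputable def totFil : Fil (fullCx D Φ T) where
  sub i n :=
    { carrier := {z : TotX D Φ (n + 1) T | (∀ (j : ℤ) (h : ((0 : ℕ) : ℤ) + j = n + 1), z 0 j h = 0) ∧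
        ∀ (p : ℕ) (j : ℤ) (h : ((p + 1 : ℕ) : ℤ) + j = n + 1), i ≤ ((-(p : ℤ) : ℤ) : EInt) → z (p + 1) j h = 0}
      zero_mem' := ⟨fun _ _ => rfl, fun _ _ _ _ => rfl⟩
      add_mem' := fun {a b} ha hb => ⟨fun j h => (congrArg₂ (· + ·) (ha.1 j h) (hb.1 j h)).trans (add_zero _),
        fun p j h hi => (congrArg₂ (· + ·) (ha.2 p j h hi) (hb.2 p j h hi)).trans (add_zero _)⟩
      neg_mem' := fun {a} ha => ⟨fun j h => (congrArg (- ·) (ha.1 j h)).trans neg_zero,
        fun p j h hi => (congrArg (- ·) (ha.2 p j h hi)).trans neg_zero⟩ }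
  mem_d i n m z hz := by
    by_cases hnm : n + 1 = m
    · subst hnm
      rw [fullCx_d]
      refine ⟨fun j h => ?_, fun p j h hi => ?_⟩
      · rw [totD_zero_apply, hz.1 (j - 1) _, map_zero]
      · rw [totD_succ_apply, hz.2 p (j - 1) _ hi, map_zero, smul_zero, add_zero]
        cases p with
        | zero => rw [hz.1 j _, map_zero]
        | succ q =>
          rw [hz.2 q j _ (hi.trans ((le_coe _ _).2 (by push_cast; omega))), map_zero]
    · rw [(fullCx D Φ T).shape n m (by simpa using hnm)]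
      exact zero_mem _
  mono h n z hz := ⟨hz.1, fun p j hp hi => hz.2 p j hp (h.trans hi)⟩

theorem negOnePow_smul_smul {A : Type w} [AddCommGroup A] (k : ℤ) (x : A) :
    (k.negOnePow : ℤ) • (k.negOnePow : ℤ) • x = x := by
  rw [smul_smul, ← Units.val_mul, Int.units_mul_self, Units.val_one, one_smul]

theorem shift_d_apply (M : CochainComplex AddCommGrpCat.{w} ℤ) (a k l : ℤ) (x : M.X (k + a)) :
    (M⟦a⟧).d k l x = (a.negOnePow : ℤ) • M.d (k + a) (l + a) x := rfl

/-- the value of a complex of abelian groups in two equal degrees -/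
theorem dΦ_eq {U : Cᵒᵖ} {i i' k : ℤ} (e : i = i') (x : ∀ j : ℤ, j = i' → (Φ.X j).obj U) :
    (Φ.d i k).app U (x i e) = (Φ.d i' k).app U (x i' rfl) := by
  subst e; rfl

/-- the graded piece at a number of factors -/
noncomputable def gradedMap (p : ℕ) :
    (totFil D Φ T).cx ((-(p : ℤ) + 1 : ℤ) : EInt) ⟶ (atObj Φ ((D.Q (p + 1)).obj T))⟦(-(p : ℤ))⟧ where
  f k := AddCommGrpCat.ofHom
    { toFun := fun z => (k.negOnePow : ℤ) •
        ((z.1 : TotX D Φ (k + 1) T) (p + 1) (k + -(p : ℤ)) (by push_cast; ring))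
      map_zero' := smul_zero _
      map_add' := fun a b => smul_add _ _ _ }
  comm' k l hkl := by
    obtain rfl : k + 1 = l := hkl
    refine AddCommGrpCat.hom_ext (AddMonoidHom.ext fun z => ?_)
    show ((atObj Φ ((D.Q (p + 1)).obj T))⟦(-(p : ℤ))⟧).d k (k + 1)
        ((k.negOnePow : ℤ) • ((z.1 : TotX D Φ (k + 1) T) (p + 1) (k + -(p : ℤ)) (by push_cast; ring))) =
      ((k + 1).negOnePow : ℤ) • (((fullCx D Φ T).d k (k + 1) z.1 : TotX D Φ (k + 1 + 1) T)
        (p + 1) (k + 1 + -(p : ℤ)) (by push_cast; ring))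
    have hδ : ∀ j e, D.δ (Φ.X j) p T ((z.1 : TotX D Φ (k + 1) T) p j e) = 0 := by
      intro j e
      cases p with
      | zero => rw [z.2.1 j e, map_zero]
      | succ q => rw [z.2.2 q j e ((le_coe _ _).2 (by push_cast; omega)), map_zero]
    rw [fullCx_d, totD_succ_apply, hδ, zero_add, map_zsmul, shift_d_apply,
      dΦ_eq Φ (show k + 1 + -(p : ℤ) - 1 = k + -(p : ℤ) by ring)
        (fun j e => (z.1 : TotX D Φ (k + 1) T) (p + 1) j (by rw [e]; push_cast; ring)),
      smul_smul, smul_smul]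
    show _ • (Φ.d (k + -(p : ℤ)) (k + 1 + -(p : ℤ))).app _ _ = _
    congr 1
    simp only [← Units.val_mul, ← Int.negOnePow_add]
    congr 1
    rw [Int.negOnePow_eq_iff]
    refine ⟨-(p : ℤ) - 1, ?_⟩
    push_cast
    ring

theorem incl_gradedMap (p : ℕ) :
    (totFil D Φ T).incl ((le_coe (-(p : ℤ)) (-(p : ℤ) + 1)).2 (by omega)) ≫ gradedMap D Φ T p = 0 := by
  ext k : 1
  refine AddCommGrpCat.hom_ext (AddMonoidHom.ext fun z => ?_)
  show (k.negOnePow : ℤ) • _ = (0 : (Φ.X (k + -(p : ℤ))).obj (op ((D.Q (p + 1)).obj T)))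
  exact (congrArg ((k.negOnePow : ℤ) • ·) (z.2.2 p _ _ le_rfl)).trans (smul_zero _)

theorem gradedMap_shortExact (p : ℕ) : (ShortComplex.mk _ _ (incl_gradedMap D Φ T p)).ShortExact := by
  refine HomologicalComplex.shortExact_of_degreewise_shortExact _ fun k => ?_
  refine { exact := ?_, mono_f := ?_, epi_g := ?_ }
  · rw [ShortComplex.ab_exact_iff]
    intro z hz
    refine ⟨⟨z.1, z.2.1, fun q j h hi => ?_⟩, Subtype.ext rfl⟩
    rcases ((le_coe _ _).1 hi).eq_or_lt with e | hlt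
    · obtain rfl : q = p := by omega
      obtain rfl : j = k + -(q : ℤ) := by push_cast at h; omega
      exact (negOnePow_smul_smul k _).symm.trans ((congrArg ((k.negOnePow : ℤ) • ·) hz).trans (smul_zero _))
    · exact z.2.2 q j h ((le_coe _ _).2 (by omega))
  · exact (AddCommGrpCat.mono_iff_injective _).2 fun a b hab => Subtype.ext (congrArg Subtype.val hab :)
  · refine (AddCommGrpCat.epi_iff_surjective _).2 fun x => ?_
    let v : ∀ j : ℤ, ((p + 1 : ℕ) : ℤ) + j = k + 1 → (Φ.X j).obj (op ((D.Q (p + 1)).obj T)) := fun j h =>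
      (eqToHom (by rw [show j = k + -(p : ℤ) by push_cast at h; omega]) :
        (Φ.X (k + -(p : ℤ))).obj (op ((D.Q (p + 1)).obj T)) ⟶ (Φ.X j).obj (op ((D.Q (p + 1)).obj T)))
        ((k.negOnePow : ℤ) • (x : (Φ.X (k + -(p : ℤ))).obj (op ((D.Q (p + 1)).obj T))))
    refine ⟨⟨oneCol D Φ (p + 1) v, fun j h => oneCol_ne D Φ (p + 1) v 0 (by omega) j h,
      fun q j h hi => oneCol_ne D Φ (p + 1) v (q + 1) (by have := (le_coe _ _).1 hi; omega) j h⟩, ?_⟩
    show (k.negOnePow : ℤ) • oneCol D Φ (p + 1) v (p + 1) (k + -(p : ℤ)) (by push_cast; ring) = x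
    rw [oneCol_self]
    simp only [v, eqToHom_refl]
    exact negOnePow_smul_smul k _

/-- a graded piece of the filtration -/
theorem nonempty_graded_iso (p : ℕ) (k q : ℤ) (hq : -(p : ℤ) + k = q) :
    Nonempty (Groth.L17.SpecObj.Hij (totFil D Φ T).specObj k
        ((le_coe (-(p : ℤ)) (-(p : ℤ) + 1)).2 (by omega)) ≅ (atObj Φ ((D.Q (p + 1)).obj T)).homology q) := by
  obtain ⟨e⟩ := (totFil D Φ T).nonempty_Hij_iso_of_shortExact _ _ (gradedMap D Φ T p) (incl_gradedMap D Φ T p)
    (gradedMap_shortExact D Φ T p) k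
  exact ⟨e ≪≫ (CochainComplex.ShiftSequence.shiftIso AddCommGrpCat.{w} (-(p : ℤ)) k q hq).app _⟩

/-- the projection to the augmentation -/
noncomputable def zeroMap : fullCx D Φ T ⟶ (atObj Φ ((D.Q 0).obj T))⟦(1 : ℤ)⟧ where
  f k := AddCommGrpCat.ofHom
    { toFun := fun z => (k.negOnePow : ℤ) • ((z : TotX D Φ (k + 1) T) 0 (k + 1) (by simp))
      map_zero' := smul_zero _
      map_add' := fun a b => smul_add _ _ _ }
  comm' k l hkl := by
    obtain rfl : k + 1 = l := hkl
    refine AddCommGrpCat.hom_ext (AddMonoidHom.ext fun z => ?_)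
    show ((atObj Φ ((D.Q 0).obj T))⟦(1 : ℤ)⟧).d k (k + 1)
        ((k.negOnePow : ℤ) • ((z : TotX D Φ (k + 1) T) 0 (k + 1) (by simp))) =
      ((k + 1).negOnePow : ℤ) • (((fullCx D Φ T).d k (k + 1) z : TotX D Φ (k + 1 + 1) T) 0 (k + 1 + 1) (by simp))
    rw [fullCx_d, totD_zero_apply, map_zsmul, shift_d_apply,
      dΦ_eq Φ (show k + 1 + 1 - 1 = k + 1 by ring) (fun j e => (z : TotX D Φ (k + 1) T) 0 j (by rw [e]; simp)),
      smul_smul]
    show _ • (Φ.d (k + 1) (k + 1 + 1)).app _ _ = _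
    congr 1
    simp only [← Units.val_mul, ← Int.negOnePow_add]

/-- the inclusion of the non augmented part -/
noncomputable def topIncl : (totFil D Φ T).cx ⊤ ⟶ fullCx D Φ T where
  f n := AddCommGrpCat.ofHom ((totFil D Φ T).sub ⊤ n).subtype
  comm' n m _ := by ext z; rfl

theorem topIncl_zeroMap : topIncl D Φ T ≫ zeroMap D Φ T = 0 := by
  ext k : 1
  refine AddCommGrpCat.hom_ext (AddMonoidHom.ext fun z => ?_)
  show (k.negOnePow : ℤ) • _ = (0 : (Φ.X (k + 1)).obj (op ((D.Q 0).obj T)))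
  exact (congrArg ((k.negOnePow : ℤ) • ·) (z.2.1 _ _)).trans (smul_zero _)

theorem zeroMap_shortExact : (ShortComplex.mk _ _ (topIncl_zeroMap D Φ T)).ShortExact := by
  refine HomologicalComplex.shortExact_of_degreewise_shortExact _ fun k => ?_
  refine { exact := ?_, mono_f := ?_, epi_g := ?_ }
  · rw [ShortComplex.ab_exact_iff]
    intro z hz
    refine ⟨⟨z, fun j h => ?_, fun q j h hi => absurd hi (by simp [WithBotTop.coe])⟩, rfl⟩
    obtain rfl : j = k + 1 := by simpa using h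
    exact (negOnePow_smul_smul k _).symm.trans ((congrArg ((k.negOnePow : ℤ) • ·) hz).trans (smul_zero _))
  · exact (AddCommGrpCat.mono_iff_injective _).2 fun a b hab => Subtype.ext hab
  · refine (AddCommGrpCat.epi_iff_surjective _).2 fun x => ?_
    let v : ∀ j : ℤ, ((0 : ℕ) : ℤ) + j = k + 1 → (Φ.X j).obj (op ((D.Q 0).obj T)) := fun j h =>
      (eqToHom (by rw [show j = k + 1 by simpa using h]) :
        (Φ.X (k + 1)).obj (op ((D.Q 0).obj T)) ⟶ (Φ.X j).obj (op ((D.Q 0).obj T)))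
        ((k.negOnePow : ℤ) • (x : (Φ.X (k + 1)).obj (op ((D.Q 0).obj T))))
    refine ⟨oneCol D Φ 0 v, ?_⟩
    show (k.negOnePow : ℤ) • oneCol D Φ 0 v 0 (k + 1) (by simp) = x
    rw [oneCol_self]
    simp only [v, eqToHom_refl]
    exact negOnePow_smul_smul k _

/-- the whole filtered complex computes the augmentation -/
theorem nonempty_top_iso (h : ExactAtObj (totCx D Φ) T) (n : ℤ) :
    Nonempty (Groth.L17.SpecObj.Hij (totFil D Φ T).specObj n (bot_le : ⊥ ≤ (⊤ : EInt)) ≅
      (atObj Φ ((D.Q 0).obj T)).homology n) := by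
  obtain ⟨e⟩ := (totFil D Φ T).nonempty_top_iso (fun n z hz => by
    funext p j h
    cases p with
    | zero => exact hz.1 j h
    | succ q => exact hz.2 q j h bot_le) n
  exact ⟨e ≪≫ ((zeroMap_shortExact D Φ T).δIso (n - 1) n (by simp) (exactAt_fullCx D Φ T h (n - 1)).isZero_homology
    (exactAt_fullCx D Φ T h n).isZero_homology).symm ≪≫
      (CochainComplex.ShiftSequence.shiftIso AddCommGrpCat.{w} 1 (n - 1) n (by ring)).app _⟩

open Groth.L17.SpecObj (IsLowBounded IsHighBounded)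

theorem isZero_totFil (hΦ : ∀ j < 0, IsZero (Φ.X j)) {j : ℤ} (hj : j < 0) (U : C) :
    Subsingleton ((Φ.X j).obj (op U)) :=
  AddCommGrpCat.subsingleton_of_isZero ((hΦ j hj).obj (op U))

theorem isLowBounded_totFil (hΦ : ∀ j < 0, IsZero (Φ.X j)) : IsLowBounded (totFil D Φ T).specObj :=
  fun n => ⟨-n, fun b hb => (totFil D Φ T).isZero_Hij _ n fun z hz => ⟨hz.1, fun p j h _ => by
    by_cases hpb : b ≤ -(p : ℤ)
    · exact hz.2 p j h ((le_coe _ _).2 hpb)
    · haveI := isZero_totFil Φ hΦ (j := j) (by push_cast at h; omega) ((D.Q (p + 1)).obj T)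
      exact Subsingleton.elim _ _⟩⟩

theorem isHighBounded_totFil : IsHighBounded (totFil D Φ T).specObj :=
  fun n => ⟨1, fun b hb => (totFil D Φ T).isZero_Hij _ n fun z hz => ⟨hz.1, fun p j h hi =>
    absurd ((le_coe _ _).1 hi) (by omega)⟩⟩

theorem isZero_high (i : ℤ) (hi : 0 < i) (n : ℤ) :
    IsZero (Groth.L17.SpecObj.Hij (totFil D Φ T).specObj n (Groth.L17.SpecObj.coe_le_succ i)) :=
  (totFil D Φ T).isZero_Hij _ n fun z hz => ⟨hz.1, fun p j h hi' => absurd ((le_coe _ _).1 hi') (by omega)⟩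

end Groth.L10.EtDescent
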