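import Groth.Agent.L10.EtDescent.Refine
import Groth.Agent.L10.EtDescent.TotFil
import Groth.Agent.L10.Descent.ResolutionSS
import Groth.Agent.L28.AcyComp.Iso
import Groth.Prelude.Def_EtLim

/-! Cohomology as homology of sections of an injective resolution. -/

universe u

open CategoryTheory CategoryTheory.Limits CategoryTheory.Abelian AlgebraicGeometry Opposite

set_option autoImplicit false
set_option backward.defeqAttrib.useBackward true
set_option backward.isDefEq.respectTransparency false
set_option backward.isDefEq.respectTransparency.types false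
set_option linter.style.haveILetI false

namespace Groth.L10.EtDescent

local notation "Ke" => Scheme.etalePrecoverage

open Groth.L17.GrothSS (homFun)

variable {S : Scheme.{u}}

/-- maps out of the constant sheaf are global sections -/
noncomputable def constSec (A : BigSite.Ab Ke S) :
    ((constantSheaf (QuotSh.J Ke S) AddCommGrpCat.{u + 1}).obj (AddCommGrpCat.of (ULift.{u + 1} ℤ)) ⟶ A) ≃+
      A.obj.obj (op (Over.mk (𝟙 S))) :=
  ((constantSheafAdj (QuotSh.J Ke S) AddCommGrpCat.{u + 1} Over.mkIdTerminal).homAddEquiv _ A).trans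
    (AddCommGrpCat.uliftZMultiplesAddEquiv _)

/-- global sections, naturally -/
noncomputable def constSecIso :
    homFun ((constantSheaf (QuotSh.J Ke S) AddCommGrpCat.{u + 1}).obj (AddCommGrpCat.of (ULift.{u + 1} ℤ))) ≅
      secF (Over.mk (𝟙 S)) :=
  NatIso.ofComponents (fun A => AddEquiv.toAddCommGrpIso (constSec A)) fun {A B} φ => by
    refine AddCommGrpCat.hom_ext (AddMonoidHom.ext fun g => ?_)
    show constSec B (g ≫ φ) = φ.hom.app _ (constSec A g)
    simp [constSec, AddEquiv.trans_apply, Adjunction.homAddEquiv_apply, Adjunction.homEquiv_naturality_right]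
    rfl

/-- transport of sections along an isomorphism of objects -/
noncomputable def atObjIso (Φ : CochainComplex ((Over S)ᵒᵖ ⥤ AddCommGrpCat.{u + 1}) ℤ) {U U' : Over S} (i : U ≅ U') :
    atObj Φ U' ≅ atObj Φ U :=
  (NatIso.mapHomologicalComplex ((evaluation (Over S)ᵒᵖ AddCommGrpCat.{u + 1}).mapIso i.op) _).app Φ

theorem nonempty_top_homology {G : BigSite.Ab Ke S} (R : InjectiveResolution G) (q : ℕ) :
    Nonempty ((atObj (preCx R.cochainComplex) (Over.mk (𝟙 S))).homology (q : ℤ) ≅
      AddCommGrpCat.of (BigSite.H Ke S G q)) :=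
  ⟨(HomologicalComplex.homologyFunctor _ _ (q : ℤ)).mapIso
      ((NatIso.mapHomologicalComplex constSecIso (ComplexShape.up ℤ)).app R.cochainComplex).symm ≪≫
    Groth.L10.Descent.homFunHomologyIso R _ q⟩

theorem nonempty_sections_homology {G : BigSite.Ab Ke S} (R : InjectiveResolution G) (U : Over S) (q : ℕ) :
    Nonempty ((atObj (preCx R.cochainComplex) U).homology (q : ℤ) ≅ AddCommGrpCat.of (BigSite.HU Ke G q U)) := by
  obtain ⟨e⟩ := nonempty_top_homology (pullRes R U.hom) q
  let i : (Over.map U.hom).obj (Over.mk (𝟙 U.left)) ≅ U := Over.isoMk (Iso.refl _) (by simp)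
  exact ⟨(HomologicalComplex.homologyFunctor _ _ (q : ℤ)).mapIso (atObjIso _ i ≪≫
      (((evaluation (Over U.left)ᵒᵖ AddCommGrpCat.{u + 1}).obj (op (Over.mk (𝟙 U.left)))).mapHomologicalComplex
        (ComplexShape.up ℤ)).mapIso (pullResIso R U.hom).symm) ≪≫ e⟩

theorem isZero_sections_homology {G : BigSite.Ab Ke S} (R : InjectiveResolution G) (U : Over S) (q : ℤ) (hq : q < 0) :
    IsZero ((atObj (preCx R.cochainComplex) U).homology q) := by
  refine HomologicalComplex.ExactAt.isZero_homology (ShortComplex.exact_of_isZero_X₂ _ ?_)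
  exact (secF U).map_isZero (R.cochainComplex.isZero_of_isStrictlyGE 0 q hq)

theorem nonempty_etale_homology {F : EtCoh.Ab S}
    (R : InjectiveResolution ((BigSite.piEtPull Ke S).obj F)) {V : Scheme.{u}} (g : V ⟶ S) (q : ℕ) :
    Nonempty ((atObj (preCx R.cochainComplex) (Over.mk g)).homology (q : ℤ) ≅
      AddCommGrpCat.of (EtCoh.H V ((EtCoh.pull g).obj F) q)) := by
  obtain ⟨e⟩ := nonempty_sections_homology R (Over.mk g) q
  obtain ⟨e'⟩ := Groth.L23.Big.nonempty_HU_piEtPull F g q
  exact ⟨e ≪≫ e'.toAddCommGrpIso⟩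

theorem nonempty_etale_homology_id {F : EtCoh.Ab S}
    (R : InjectiveResolution ((BigSite.piEtPull Ke S).obj F)) (q : ℕ) :
    Nonempty ((atObj (preCx R.cochainComplex) (Over.mk (𝟙 S))).homology (q : ℤ) ≅
      AddCommGrpCat.of (EtCoh.H S F q)) := by
  haveI := Groth.L27.EtSite.preservesFiniteLimits_pull (𝟙 S)
  obtain ⟨e⟩ := nonempty_etale_homology R (𝟙 S) q
  exact ⟨e ≪≫ ((AddEquiv.ofBijective (EtCore.Hpull (𝟙 S) F q)
    (Groth.L28.AcyComp.bijective_Hpull (𝟙 S) F q)).symm).toAddCommGrpIso⟩

end Groth.L10.EtDescent
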