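import Groth.Agent.L10.EtDescent.Swap

/-! Extraction from a total complex, and transfer along functors. -/

universe w v u v' u'

open CategoryTheory CategoryTheory.Limits Opposite

set_option autoImplicit false
set_option backward.isDefEq.respectTransparency false

namespace Groth.L10.EtDescent

variable {C : Type u} [Category.{v} C] (E : Datum.{w} C) (Ψ : CochainComplex (Cᵒᵖ ⥤ AddCommGrpCat.{w}) ℤ)

theorem dΦ_cast (i i' k : ℤ) (T : Cᵒᵖ) (e : i = i') (x : ∀ i, (Ψ.X i).obj T) :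
    (Ψ.d i k).app T (x i) = (Ψ.d i' k).app T (x i') := by
  subst e; rfl

theorem exists_lift_step {T : C} {j : ℤ} (hE : ExactAtObj Ψ T) (c : ℤ) (hc : c = 1 ∨ c = -1)
    (x : (Ψ.X j).obj (op T)) (hx : (Ψ.d j (j + 1)).app (op T) x = 0) :
    ∃ y : (Ψ.X (j - 1)).obj (op T), x + c • (Ψ.d (j - 1) j).app (op T) y = 0 := by
  obtain ⟨y, hy⟩ := hE j x hx
  refine ⟨(-c) • y, ?_⟩
  rw [map_zsmul, hy, smul_smul]
  rcases hc with rfl | rfl <;> simp

/-- exactness of the total complex and of its higher columns gives exactness of the zeroth column -/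
theorem exactAtObj_extract (T : C) (htot : ExactAtObj (totCx E Ψ) T)
    (hcol : ∀ q : ℕ, ExactAtObj Ψ ((E.Q (q + 1)).obj T)) : ExactAtObj Ψ ((E.Q 0).obj T) := by
  intro n z hz
  let cell : ℕ → Type w := fun q => (Ψ.X (n - q)).obj (op ((E.Q q).obj T))
  let good : ∀ q, cell q → Prop := fun q x =>
    (Ψ.d (n - q) (n - q + 1)).app _ (E.δ (Ψ.X (n - q)) q T x) = 0
  have h0 : good 0 (show (Ψ.X (n - (0 : ℕ))).obj (op ((E.Q 0).obj T)) from
      (eqToHom (by simp) : (Ψ.X n).obj (op ((E.Q 0).obj T)) ⟶ _) z) := by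
    have key : ∀ i, ∀ e : n = i, (Ψ.d i (i + 1)).app (op ((E.Q 1).obj T))
        (E.δ (Ψ.X i) 0 T ((eqToHom (by rw [e]) : (Ψ.X n).obj (op ((E.Q 0).obj T)) ⟶ _) z)) = 0 := by
      rintro i rfl
      rw [eqToHom_refl]
      change (Ψ.d n (n + 1)).app (op ((E.Q 1).obj T)) (E.δ (Ψ.X n) 0 T z) = 0
      rw [E.δ_natF (Ψ.d n (n + 1)) 0 T z, hz, map_zero]
    exact key _ (by simp)
  have step : ∀ q (x : cell q), good q x → ∃ y : cell (q + 1),
      (∀ j (hj : (n : ℤ) - q = j), (eqToHom (by rw [hj]) : (Ψ.X (n - q)).obj (op ((E.Q (q + 1)).obj T)) ⟶ (Ψ.X j).obj _)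
          (E.δ (Ψ.X (n - q)) q T x) +
        (((q + 1 : ℕ) : ℤ).negOnePow : ℤ) • (Ψ.d (n - (q + 1 : ℕ)) j).app _ y = 0) ∧ good (q + 1) y := by
    intro q x hx
    obtain ⟨y, hy⟩ := exists_lift_step Ψ (hcol q) (((q + 1 : ℕ) : ℤ).negOnePow : ℤ)
      (by
        rcases Int.units_eq_one_or ((q + 1 : ℕ) : ℤ).negOnePow with hs | hs
        · exact Or.inl (by rw [hs]; rfl)
        · exact Or.inr (by rw [hs]; rfl)) _ hx
    let y' : cell (q + 1) := (eqToHom (by rw [show n - (q : ℤ) - 1 = n - (q + 1 : ℕ) by push_cast; ring]) :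
      (Ψ.X (n - q - 1)).obj (op ((E.Q (q + 1)).obj T)) ⟶ _) y
    refine ⟨y', ?_, ?_⟩
    · rintro j rfl
      rw [eqToHom_refl]
      change E.δ (Ψ.X (n - q)) q T x + _ = 0
      have key : ∀ i, ∀ e : n - (q : ℤ) - 1 = i, (Ψ.d i (n - q)).app (op ((E.Q (q + 1)).obj T))
          ((eqToHom (by rw [e]) : (Ψ.X (n - q - 1)).obj (op ((E.Q (q + 1)).obj T)) ⟶ _) y) =
            (Ψ.d (n - q - 1) (n - q)).app _ y := by
        rintro i rfl; rw [eqToHom_refl]; rfl
      simp only [y']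
      rw [key _ (by push_cast; ring)]
      exact hy
    · have key : ∀ i, ∀ e : n - (q : ℤ) - 1 = i, (Ψ.d i (i + 1)).app (op ((E.Q (q + 1 + 1)).obj T))
          (E.δ (Ψ.X i) (q + 1) T ((eqToHom (by rw [e]) : (Ψ.X (n - q - 1)).obj (op ((E.Q (q + 1)).obj T)) ⟶ _) y)) = 0 := by
        rintro i rfl
        rw [eqToHom_refl]
        change (Ψ.d (n - q - 1) (n - q - 1 + 1)).app (op ((E.Q (q + 1 + 1)).obj T)) (E.δ (Ψ.X (n - q - 1)) (q + 1) T y) = 0
        rw [E.δ_natF (Ψ.d (n - q - 1) (n - q - 1 + 1)) (q + 1) T y]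
        have key2 : ∀ k, k = n - (q : ℤ) → E.δ (Ψ.X k) (q + 1) T ((Ψ.d (n - q - 1) k).app _ y) = 0 := by
          rintro k rfl
          have e := congrArg (E.δ (Ψ.X (n - q)) (q + 1) T) hy
          rw [map_add, E.δ_δ, zero_add, map_zsmul, map_zero] at e
          rcases Int.units_eq_one_or ((q + 1 : ℕ) : ℤ).negOnePow with hs | hs
          · simpa [hs] using e
          · simpa [hs] using e
        exact key2 _ (by omega)
      exact key _ (by push_cast; ring)
  choose nxt hnxt hgood using step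
  let seq : ∀ q, { x : cell q // good q x } := fun q =>
    Nat.rec ⟨_, h0⟩ (fun q x => ⟨nxt q x.1 x.2, hgood q x.1 x.2⟩) q
  let u : TotX E Ψ n T := fun q j h =>
    (eqToHom (by rw [show n - (q : ℤ) = j by omega]) : (Ψ.X (n - q)).obj (op ((E.Q q).obj T)) ⟶ _) (seq q).1
  have hu : totD E Ψ n T u = 0 := by
    funext q j h
    have castd : ∀ (q : ℕ) (j : ℤ) (x : cell q) (i : ℤ) (e : n - (q : ℤ) = i),
        (Ψ.d i j).app (op ((E.Q q).obj T)) ((eqToHom (by rw [e]) : (Ψ.X (n - q)).obj (op ((E.Q q).obj T)) ⟶ _) x) =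
          (Ψ.d (n - q) j).app _ x := by
      rintro q j x i rfl; rw [eqToHom_refl]; rfl
    cases q with
    | zero =>
      rw [totD_zero_apply]
      simp only [u]
      rw [castd 0 j _ (j - 1) (by omega)]
      have hj : j = n + 1 := by omega
      subst hj
      exact (castd' n z).trans hz
    | succ q =>
      rw [totD_succ_apply]
      simp only [u]
      rw [castd (q + 1) j _ (j - 1) (by push_cast at h ⊢; omega)]
      have e := hnxt q (seq q).1 (seq q).2 j (by push_cast at h ⊢; omega)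
      refine Eq.trans ?_ e
      congr 1
      have castδ : ∀ (i : ℤ) (e : n - (q : ℤ) = i),
          E.δ (Ψ.X i) q T ((eqToHom (by rw [e]) : (Ψ.X (n - q)).obj (op ((E.Q q).obj T)) ⟶ _) (seq q).1) =
            (eqToHom (by rw [e]) : (Ψ.X (n - q)).obj (op ((E.Q (q + 1)).obj T)) ⟶ (Ψ.X i).obj _)
              (E.δ (Ψ.X (n - q)) q T (seq q).1) := by
        rintro i rfl; rw [eqToHom_refl, eqToHom_refl]; rfl
      exact castδ j (by push_cast at h ⊢; omega)
  obtain ⟨n₀, rfl⟩ : ∃ n₀, n = n₀ + 1 := ⟨n - 1, by omega⟩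
  obtain ⟨w, hw⟩ := (exactAtObj_totCx_iff E Ψ T).1 htot n₀ u hu
  have e := congrFun (congrFun (congrFun hw 0) (n₀ + 1)) (by omega)
  rw [totD_zero_apply] at e
  refine ⟨w 0 (n₀ + 1 - 1) (by omega), e.trans ?_⟩
  exact castu (n₀ + 1) z _ (by simp)
  where
  castd' (n : ℤ) (z : (Ψ.X n).obj (op ((E.Q 0).obj T))) :
      (Ψ.d (n - (0 : ℕ)) (n + 1)).app (op ((E.Q 0).obj T))
        ((eqToHom (by simp) : (Ψ.X n).obj (op ((E.Q 0).obj T)) ⟶ (Ψ.X (n - (0 : ℕ))).obj _) z) =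
        (Ψ.d n (n + 1)).app _ z := by
    have key : ∀ i, ∀ e : n = i, (Ψ.d i (n + 1)).app (op ((E.Q 0).obj T))
        ((eqToHom (by rw [e]) : (Ψ.X n).obj (op ((E.Q 0).obj T)) ⟶ _) z) = (Ψ.d n (n + 1)).app _ z := by
      rintro i rfl; rw [eqToHom_refl]; rfl
    exact key _ (by simp)
  castu (n : ℤ) (z : (Ψ.X n).obj (op ((E.Q 0).obj T))) (i : ℤ) (e : n = i) {h} :
      (eqToHom h : (Ψ.X i).obj (op ((E.Q 0).obj T)) ⟶ (Ψ.X n).obj _)
        ((eqToHom (by rw [e]) : (Ψ.X n).obj (op ((E.Q 0).obj T)) ⟶ _) z) = z := by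
    subst e; rw [eqToHom_refl]; rfl

section Transfer

variable {C' : Type u'} [Category.{v'} C'] (u : C' ⥤ C) (D : Datum.{w} C) (D' : Datum.{w} C')
  (Φ : CochainComplex (Cᵒᵖ ⥤ AddCommGrpCat.{w}) ℤ)

/-- restriction of a complex of presheaves along a functor -/
abbrev resCxP : CochainComplex (C'ᵒᵖ ⥤ AddCommGrpCat.{w}) ℤ :=
  (((Functor.whiskeringLeft C'ᵒᵖ Cᵒᵖ AddCommGrpCat.{w}).obj u.op).mapHomologicalComplex (ComplexShape.up ℤ)).obj Φ

/-- exactness of a total complex transfers along compatible data -/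
theorem exactAtObj_transfer (κ : ∀ (p : ℕ) (T : C'), (D.Q p).obj (u.obj T) ≅ u.obj ((D'.Q p).obj T))
    (hκ : ∀ (F : Cᵒᵖ ⥤ AddCommGrpCat.{w}) (p : ℕ) (T : C') (x : F.obj (op (u.obj ((D'.Q p).obj T)))),
      F.map (κ (p + 1) T).hom.op (D'.δ (u.op ⋙ F) p T x) = D.δ F p (u.obj T) (F.map (κ p T).hom.op x))
    (T : C') (h : ExactAtObj (totCx D' (resCxP u Φ)) T) : ExactAtObj (totCx D Φ) (u.obj T) := by
  have hcomm : ∀ (m : ℤ) (y : TotX D' (resCxP u Φ) m T),
      totD D Φ m (u.obj T) (fun p j h => (Φ.X j).map (κ p T).hom.op (y p j h)) =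
        fun p j h => (Φ.X j).map (κ p T).hom.op (totD D' (resCxP u Φ) m T y p j h) := by
    intro m y
    funext p j hj
    cases p with
    | zero =>
      rw [totD_zero_apply, totD_zero_apply]
      exact NatTrans.naturality_apply (Φ.d (j - 1) j) (κ 0 T).hom.op _
    | succ p =>
      rw [totD_succ_apply, totD_succ_apply, map_add, map_zsmul]
      refine congrArg₂ (· + ·) (hκ (Φ.X j) p T _).symm (congrArg _ ?_)
      exact NatTrans.naturality_apply (Φ.d (j - 1) j) (κ (p + 1) T).hom.op _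
  refine (exactAtObj_totCx_iff D Φ _).2 fun n z hz => ?_
  let z' : TotX D' (resCxP u Φ) (n + 1) T := fun p j h => (Φ.X j).map (κ p T).inv.op (z p j h)
  have hzz : (fun p j h => (Φ.X j).map (κ p T).hom.op (z' p j h)) = z := by
    funext p j h
    show (Φ.X j).map (κ p T).hom.op ((Φ.X j).map (κ p T).inv.op (z p j h)) = z p j h
    rw [← ConcreteCategory.comp_apply, ← Functor.map_comp, ← op_comp, Iso.hom_inv_id]
    simp
  have hz' : totD D' (resCxP u Φ) (n + 1) T z' = 0 := by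
    have e := hcomm (n + 1) z'
    rw [hzz, hz] at e
    funext p j h
    have e' := congrArg ((Φ.X j).map (κ p T).inv.op) (congrFun (congrFun (congrFun e p) j) h)
    rw [← ConcreteCategory.comp_apply, ← Functor.map_comp, ← op_comp, Iso.inv_hom_id] at e'
    simp only [op_id, CategoryTheory.Functor.map_id, Pi.zero_apply, propPi_zero, map_zero] at e'
    exact e'.symm
  obtain ⟨y, hy⟩ := (exactAtObj_totCx_iff D' (resCxP u Φ) T).1 h n z' hz'
  exact ⟨fun p j h => (Φ.X j).map (κ p T).hom.op (y p j h), by rw [hcomm, hy, hzz]⟩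

end Transfer

end Groth.L10.EtDescent
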