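import Groth.Agent.L10.EtDescent.Finite

/-! Theorem A: the augmented Čech complex of a finite surjective morphism is exact. -/

universe u

open CategoryTheory CategoryTheory.Limits AlgebraicGeometry Opposite

set_option autoImplicit false
set_option backward.defeqAttrib.useBackward true
set_option backward.isDefEq.respectTransparency false
set_option backward.isDefEq.respectTransparency.types false
set_option linter.style.haveILetI false

namespace Groth.L10.EtDescent

local notation "Ke" => Scheme.etalePrecoverage

variable {S W : Scheme.{u}} (h : W ⟶ S) {G : BigSite.Ab Ke S} (R : InjectiveResolution G)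

theorem cob_nat {F F' : BigSite.Ab Ke S} (φ : F ⟶ F') (p : ℕ) (T : Over S) (x : F.obj.obj (op (qo h p T))) :
    φ.hom.app _ (cob h F.obj p T x) = cob h F'.obj p T (φ.hom.app _ x) :=
  (datum h).δ_natF φ.hom p T x

theorem injective_aug_sec (T : Over S) : Function.Injective ((aug R).hom.app (op T)) := by
  haveI : Mono ((secF T).map (aug R)) := inferInstance
  exact (AddCommGrpCat.mono_iff_injective _).1 this

theorem exists_boundary_low [IsFinite h] [Surjective h] (hG : InImg G) (n : ℤ) (T : Over S)
    (r : TotX (datum h) (preCx R.cochainComplex) (n + 1) T)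
    (hr : totD (datum h) (preCx R.cochainComplex) (n + 1) T r = 0)
    (hlow : ∀ (p : ℕ) (j : ℤ) (e : (p : ℤ) + j = n + 1), 1 ≤ j → r p j e = 0) :
    ∃ R' ∈ QuotSh.J Ke S T, ∀ ⦃T' : Over S⦄ (a : T' ⟶ T), R' a → ∃ y,
      totD (datum h) (preCx R.cochainComplex) n T' y = totMap (datum h) (preCx R.cochainComplex) (n + 1) a r := by
  have hneg : ∀ (p : ℕ) (j : ℤ) (T' : Over S), j < 0 →
      Subsingleton ((R.cochainComplex.X j).obj.obj (op (qo h p T'))) := fun p j T' hj =>
    AddCommGrpCat.subsingleton_of_isZero ((secF (qo h p T')).map_isZero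
      (R.cochainComplex.isZero_of_isStrictlyGE 0 j hj))
  by_cases hn : n + 1 < 0
  · refine ⟨⊤, GrothendieckTopology.top_mem _ T, fun T' a _ => ⟨0, ?_⟩⟩
    rw [map_zero]
    funext p j e
    haveI := hneg p j T' (by omega)
    exact Subsingleton.elim (α := (R.cochainComplex.X j).obj.obj (op (qo h p T'))) _ _
  obtain ⟨P, hP⟩ : ∃ P : ℕ, (P : ℤ) = n + 1 := ⟨(n + 1).toNat, by omega⟩
  let x : (R.cochainComplex.X 0).obj.obj (op (qo h P T)) := r P 0 (by omega)
  have hdx : (R.cochainComplex.d 0 1).hom.app _ x = 0 := by
    have e1 := congrFun (congrFun (congrFun hr P) 1) (by omega)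
    have e2 : ((P : ℤ).negOnePow : ℤ) • (R.cochainComplex.d 0 1).hom.app (op (qo h P T)) x = 0 := by
      cases P with
      | zero =>
        rw [totD_zero_apply] at e1
        refine Eq.trans ?_ e1
        simp
        rfl
      | succ k =>
        rw [totD_succ_apply, hlow k 1 (by push_cast at hP ⊢; omega) le_rfl, map_zero, zero_add] at e1
        exact e1
    rcases Int.units_eq_one_or (P : ℤ).negOnePow with hs | hs <;> simpa [hs] using e2
  obtain ⟨g, hg⟩ : ∃ g : G.obj.obj (op (qo h P T)), (aug R).hom.app _ g = x :=
    haveI : Mono (ShortComplex.mk (aug R) (R.cochainComplex.d 0 1) (aug_d R)).f := mono_aug R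
    exists_preimage_sec (exact_aug R) (qo h P T) x hdx
  have hδg : cob h G.obj P T g = 0 := by
    refine injective_aug_sec R (qo h (P + 1) T) (Eq.trans ?_ (map_zero _).symm)
    have e1 := congrFun (congrFun (congrFun hr (P + 1)) 0) (by push_cast; omega)
    rw [totD_succ_apply] at e1
    haveI := hneg (P + 1) (0 - 1) T (by omega)
    rw [show r (P + 1) (0 - 1) (by push_cast; omega) = 0 from
      Subsingleton.elim (α := (R.cochainComplex.X (0 - 1)).obj.obj (op (qo h (P + 1) T))) _ _, map_zero, smul_zero,
      add_zero] at e1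
    exact (cob_nat h (aug R) P T g).trans ((congrArg (cob h (R.cochainComplex.X 0).obj P T) hg).trans e1)
  cases P with
  | zero =>
    have hex := exactAt_cechSh h hG 0
    rw [HomologicalComplex.exactAt_iff' _ 0 0 1 (by simp) (by simp), exact_iff_locally] at hex
    obtain ⟨R', hR', hR''⟩ := hex T g ((cechSh_d_app h G 0 T g).trans hδg)
    refine ⟨R', hR', fun T' a ha => ⟨0, ?_⟩⟩
    obtain ⟨g', hg'⟩ := hR'' a ha
    have h0 : G.obj.map (((datum h).Q 0).map a).op g = 0 := by
      refine Eq.trans hg'.symm ?_
      exact ConcreteCategory.congr_hom (congrArg (fun φ : colSh h 0 G ⟶ colSh h 0 G => φ.hom.app (op T'))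
        ((cechSh h G).shape 0 0 (by simp))) g'
    rw [map_zero]
    funext p j e
    change (0 : _) = (R.cochainComplex.X j).obj.map (((datum h).Q p).map a).op (r p j e)
    rcases lt_trichotomy j 0 with hj | rfl | hj
    · haveI := hneg p j T' hj
      exact Subsingleton.elim (α := (R.cochainComplex.X j).obj.obj (op (qo h p T'))) _ _
    · obtain rfl : p = 0 := by omega
      change _ = (R.cochainComplex.X 0).obj.map _ x
      rw [← hg]
      refine Eq.trans ?_ (NatTrans.naturality_apply (aug R).hom (((datum h).Q 0).map a).op g)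
      rw [h0, map_zero]
    · rw [hlow p j e (by omega), map_zero]
  | succ k =>
    have hex := exactAt_cechSh h hG (k + 1)
    rw [HomologicalComplex.exactAt_iff' _ k (k + 1) (k + 2) (by simp) (by simp), exact_iff_locally] at hex
    obtain ⟨R', hR', hR''⟩ := hex T g ((cechSh_d_app h G (k + 1) T g).trans hδg)
    refine ⟨R', hR', fun T' a ha => ?_⟩
    obtain ⟨g', hg'⟩ := hR'' a ha
    have hg'' : cob h G.obj k T' g' = G.obj.map (((datum h).Q (k + 1)).map a).op g :=
      (cechSh_d_app h G k T' g').symm.trans hg'
    let v : ∀ j : ℤ, (k : ℤ) + j = n → ((preCx R.cochainComplex).X j).obj (op (((datum h).Q k).obj T')) := fun j e =>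
      (eqToHom (by rw [show j = 0 by push_cast at hP; omega]) :
        (R.cochainComplex.X 0).obj.obj (op (qo h k T')) ⟶ (R.cochainComplex.X j).obj.obj (op (qo h k T')))
        ((aug R).hom.app _ g')
    refine ⟨oneCol (datum h) (preCx R.cochainComplex) k v, ?_⟩
    have hv : ∀ e, v 0 e = (aug R).hom.app _ g' := fun e => by
      simp only [v, eqToHom_refl]
      rfl
    funext p j e
    change _ = (R.cochainComplex.X j).obj.map (((datum h).Q p).map a).op (r p j e)
    rcases lt_trichotomy j 0 with hj | rfl | hj
    · haveI := hneg p j T' hj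
      exact Subsingleton.elim (α := (R.cochainComplex.X j).obj.obj (op (qo h p T'))) _ _
    · obtain rfl : p = k + 1 := by push_cast at hP; omega
      rw [totD_succ_apply, oneCol_self, oneCol_ne _ _ k v (k + 1) (by omega), map_zero, smul_zero, add_zero,
        hv (by push_cast at hP ⊢; omega)]
      change _ = (R.cochainComplex.X 0).obj.map _ x
      rw [← hg]
      refine Eq.trans ?_ (NatTrans.naturality_apply (aug R).hom (((datum h).Q (k + 1)).map a).op g)
      rw [← hg'']
      exact (cob_nat h (aug R) k T' g').symm
    · rw [hlow p j e (by omega), map_zero]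
      cases p with
      | zero =>
        rw [totD_zero_apply]
        by_cases hk : k = 0
        · subst hk
          obtain rfl : j = 1 := by push_cast at hP; omega
          rw [oneCol_self]
          have key : ∀ i e', i = 0 → (R.cochainComplex.d i 1).hom.app _ (v i e') = 0 := by
            rintro i e' rfl
            rw [hv e']
            exact ConcreteCategory.congr_hom (congrArg (fun φ : G ⟶ R.cochainComplex.X 1 => φ.hom.app _) (aug_d R)) g'
          exact key (1 - 1) (by push_cast at hP ⊢; omega) (by norm_num)
        · rw [oneCol_ne _ _ k v 0 (by omega), map_zero]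
      | succ q =>
        rw [totD_succ_apply, oneCol_ne _ _ k v q (by push_cast at hP e; omega), map_zero, zero_add]
        by_cases hq : q + 1 = k
        · subst hq
          obtain rfl : j = 1 := by push_cast at hP e; omega
          rw [oneCol_self]
          have key : ∀ i e', i = 0 → (R.cochainComplex.d i 1).hom.app _ (v i e') = 0 := by
            rintro i e' rfl
            rw [hv e']
            exact ConcreteCategory.congr_hom (congrArg (fun φ : G ⟶ R.cochainComplex.X 1 => φ.hom.app _) (aug_d R)) g'
          exact (congrArg _ (key (1 - 1) (by push_cast at hP ⊢; omega) (by norm_num))).trans (smul_zero _)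
        · rw [oneCol_ne _ _ k v (q + 1) hq, map_zero, smul_zero]

/-- Theorem A -/
theorem exactAtObj_finite [IsFinite h] [Surjective h] (hG : InImg G) (T : Over S) :
    ExactAtObj (totCx (datum h) (preCx R.cochainComplex)) T := by
  refine exactAtObj_of_lexact h R.cochainComplex (lexact_totCx _ _ _ ?_) T
  intro n T z hz
  obtain ⟨S1, hS1, hS1'⟩ := lexact_tot_ge (datum h) (preCx R.cochainComplex) (QuotSh.J Ke S) 1
    (fun p j hj T z hz => by
      have hex := exactAt_col h R hG p j hj
      rw [HomologicalComplex.exactAt_iff' _ (j - 1) j (j + 1) (by simp) (by simp), exact_iff_locally] at hex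
      exact hex T z hz) n T z hz
  refine ⟨Sieve.mk (fun T' g => ∃ y, totD (datum h) (preCx R.cochainComplex) n T' y =
      totMap (datum h) (preCx R.cochainComplex) (n + 1) g z) ?_, (QuotSh.J Ke S).transitive hS1 _ ?_, fun T' g hg => hg⟩
  · rintro T' T'' g ⟨y, hy⟩ a
    refine ⟨totMap (datum h) (preCx R.cochainComplex) n a y, ?_⟩
    rw [totD_totMap, hy]
    funext p j e
    simp [totMap]
  intro T' g hg
  obtain ⟨y, hy⟩ := hS1' g hg
  obtain ⟨S2, hS2, hS2'⟩ := exists_boundary_low h R hG n T'
    (totMap (datum h) (preCx R.cochainComplex) (n + 1) g z - totD (datum h) (preCx R.cochainComplex) n T' y)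
    (by rw [map_sub, totD_totMap, hz, map_zero, totD_totD, sub_zero]) hy
  refine (QuotSh.J Ke S).superset_covering (fun T'' a ha => ?_) hS2
  obtain ⟨w, hw⟩ := hS2' a ha
  refine ⟨w + totMap (datum h) (preCx R.cochainComplex) n a y, ?_⟩
  rw [map_add, hw, map_sub, totD_totMap, sub_add_cancel]
  funext p j e
  simp [totMap]

end Groth.L10.EtDescent
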