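import Groth.Agent.L10.EtDescent.Tot
import Groth.Prelude.Def_BigSite
import Mathlib.CategoryTheory.Sites.EpiMono
import Mathlib.CategoryTheory.Sites.LocallyBijective
import Mathlib.Algebra.Homology.ShortComplex.Ab
import Mathlib.Algebra.Homology.ShortComplex.Abelian
import Mathlib.Algebra.Homology.Additive
import Mathlib.CategoryTheory.Preadditive.LeftExact
import Mathlib.Algebra.Category.Grp.Abelian
import Mathlib.Algebra.Category.Grp.Limits
import Mathlib.Algebra.Category.Grp.Colimits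
import Mathlib.Algebra.Category.Grp.FilteredColimits

/-! Exactness of complexes of sheaves on the big étale site is local exactness. -/

universe u

open CategoryTheory CategoryTheory.Limits AlgebraicGeometry Opposite

set_option autoImplicit false
set_option backward.isDefEq.respectTransparency false
set_option linter.style.haveILetI false

namespace Groth.L10.EtDescent

local notation "Ke" => Scheme.etalePrecoverage

variable {S : Scheme.{u}}

/-- sections over an object -/
noncomputable abbrev secF (T : Over S) : BigSite.Ab Ke S ⥤ AddCommGrpCat.{u + 1} :=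
  sheafToPresheaf _ _ ⋙ (evaluation _ _).obj (op T)

theorem exists_kernel_sec {A B : BigSite.Ab Ke S} (g : A ⟶ B) (T : Over S) (x : A.obj.obj (op T))
    (hx : g.hom.app (op T) x = 0) : ∃ k : (kernel g).obj.obj (op T), (kernel.ι g).hom.app (op T) k = x := by
  let φ : AddCommGrpCat.of (ULift.{u + 1} ℤ) ⟶ (secF T).obj A :=
    AddCommGrpCat.ofHom ((zmultiplesHom _ x).comp AddEquiv.ulift.toAddMonoidHom)
  have hφ : φ ≫ (secF T).map g = 0 := by
    refine AddCommGrpCat.hom_ext (AddMonoidHom.ext fun n => ?_)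
    show g.hom.app (op T) (n.down • x) = 0
    rw [map_zsmul, hx, smul_zero]
  let hlim := KernelFork.mapIsLimit _ (kernelIsKernel g) (secF T)
  have e := ConcreteCategory.congr_hom (hlim.fac (KernelFork.ofι φ hφ) WalkingParallelPair.zero) (ULift.up 1)
  refine ⟨(hlim.lift (KernelFork.ofι φ hφ)) (ULift.up 1), Eq.trans e ?_⟩
  show (1 : ℤ) • x = x
  rw [one_smul]

theorem injective_kernel_sec {A B : BigSite.Ab Ke S} (g : A ⟶ B) (T : Over S) :
    Function.Injective ((kernel.ι g).hom.app (op T)) := by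
  haveI : Mono ((secF T).map (kernel.ι g)) := inferInstance
  exact (AddCommGrpCat.mono_iff_injective _).1 this

/-- exactness of sheaves is local surjectivity onto cycles -/
theorem exact_iff_locally (Sh : ShortComplex (BigSite.Ab Ke S)) :
    Sh.Exact ↔ ∀ (T : Over S) (z : Sh.X₂.obj.obj (op T)), Sh.g.hom.app (op T) z = 0 →
      ∃ R ∈ QuotSh.J Ke S T, ∀ ⦃T' : Over S⦄ (a : T' ⟶ T), R a →
        ∃ y : Sh.X₁.obj.obj (op T'), Sh.f.hom.app (op T') y = Sh.X₂.obj.map a.op z := by
  rw [Sh.exact_iff_epi_kernel_lift, ← Sheaf.isLocallySurjective_iff_epi']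
  let l := kernel.lift Sh.g Sh.f Sh.zero
  have hl : ∀ (T : Over S) (y : Sh.X₁.obj.obj (op T)),
      (kernel.ι Sh.g).hom.app (op T) (l.hom.app (op T) y) = Sh.f.hom.app (op T) y := fun T y =>
    ConcreteCategory.congr_hom
      (congrArg (fun φ : Sh.X₁ ⟶ Sh.X₂ => φ.hom.app (op T)) (kernel.lift_ι Sh.g Sh.f Sh.zero)) y
  constructor
  · intro h T z hz
    obtain ⟨k, hk⟩ := exists_kernel_sec Sh.g T z hz
    refine ⟨_, h.imageSieve_mem k, fun T' a ⟨y, hy⟩ => ⟨y, ?_⟩⟩
    rw [← hl, ← hk]
    exact (congrArg _ hy).trans (NatTrans.naturality_apply (kernel.ι Sh.g).hom a.op k)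
  · intro h
    refine ⟨fun {T} k => ?_⟩
    have hz : Sh.g.hom.app (op T) ((kernel.ι Sh.g).hom.app (op T) k) = 0 :=
      ConcreteCategory.congr_hom
        (congrArg (fun φ : kernel Sh.g ⟶ Sh.X₃ => φ.hom.app (op T)) (kernel.condition Sh.g)) k
    obtain ⟨R, hR, hR'⟩ := h T _ hz
    refine (QuotSh.J Ke S).superset_covering (fun T' a ha => ?_) hR
    obtain ⟨y, hy⟩ := hR' a ha
    refine ⟨y, injective_kernel_sec Sh.g T' ((hl T' y).trans (hy.trans ?_))⟩
    exact (NatTrans.naturality_apply (kernel.ι Sh.g).hom a.op k).symm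

/-- the underlying complex of presheaves -/
noncomputable abbrev preCx (L : CochainComplex (BigSite.Ab Ke S) ℤ) :
    CochainComplex ((Over S)ᵒᵖ ⥤ AddCommGrpCat.{u + 1}) ℤ :=
  ((sheafToPresheaf _ _).mapHomologicalComplex (ComplexShape.up ℤ)).obj L

theorem exactAt_iff_lexact (L : CochainComplex (BigSite.Ab Ke S) ℤ) (n : ℤ) :
    L.ExactAt n ↔ LExact (QuotSh.J Ke S) (preCx L) n := by
  rw [HomologicalComplex.exactAt_iff' _ (n - 1) n (n + 1) (by simp) (by simp), exact_iff_locally]
  rfl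

theorem lexact_of_exactAtObj {L : CochainComplex ((Over S)ᵒᵖ ⥤ AddCommGrpCat.{u + 1}) ℤ}
    (h : ∀ T : Over S, ∃ R ∈ QuotSh.J Ke S T, ∀ ⦃T' : Over S⦄ (a : T' ⟶ T), R a → ExactAtObj L T') (n : ℤ) :
    LExact (QuotSh.J Ke S) L n := by
  intro T z hz
  obtain ⟨R, hR, hR'⟩ := h T
  refine ⟨R, hR, fun T' a ha => hR' a ha n _ ?_⟩
  rw [NatTrans.naturality_apply (L.d n (n + 1)) a.op z, hz, map_zero]

end Groth.L10.EtDescent
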