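import Groth.Agent.L10.EtDescent.FiniteExact
import Groth.Agent.L17.AcyclicCx
import Groth.Agent.L27.Fppf.Elem

/-! Descent on the big étale site for morphisms refined, étale locally on the base, by finite surjective ones. -/

universe u

open CategoryTheory CategoryTheory.Limits AlgebraicGeometry Opposite

set_option autoImplicit false
set_option backward.defeqAttrib.useBackward true
set_option backward.isDefEq.respectTransparency false
set_option backward.isDefEq.respectTransparency.types false
set_option linter.style.haveILetI false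

namespace Groth.L10.EtDescent

local notation "Ke" => Scheme.etalePrecoverage

/-- exactness of total complexes only depends on the complex up to isomorphism -/
theorem exactAtObj_totCx_of_iso {C : Type*} [Category C] (D : Datum C)
    {Φ Φ' : CochainComplex (Cᵒᵖ ⥤ AddCommGrpCat) ℤ} (e : Φ ≅ Φ') (T : C) (h : ExactAtObj (totCx D Φ) T) :
    ExactAtObj (totCx D Φ') T := by
  refine (exactAtObj_totCx_iff D Φ' T).2 fun n z hz => ?_
  have hnat : ∀ {A B : CochainComplex (Cᵒᵖ ⥤ AddCommGrpCat) ℤ} (φ : A ⟶ B) (m : ℤ) (w : TotX D A m T),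
      totD D B m T (fun p j h => (φ.f j).app _ (w p j h)) = fun p j h => (φ.f j).app _ (totD D A m T w p j h) := by
    intro A B φ m w
    have hd : ∀ (p : ℕ) (j : ℤ) (x : (A.X (j - 1)).obj (op ((D.Q p).obj T))),
        (B.d (j - 1) j).app _ ((φ.f (j - 1)).app _ x) = (φ.f j).app _ ((A.d (j - 1) j).app _ x) := fun p j x =>
      ConcreteCategory.congr_hom (congrArg (fun ψ : A.X (j - 1) ⟶ B.X j => ψ.app _) (φ.comm (j - 1) j)) x
    funext p j h
    cases p with
    | zero => rw [totD_zero_apply, totD_zero_apply]; exact hd 0 j _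
    | succ p => rw [totD_succ_apply, totD_succ_apply, map_add, map_zsmul, D.δ_natF, hd]
  have hinv : ∀ (j : ℤ) (U : Cᵒᵖ) (x : (Φ'.X j).obj U), (e.hom.f j).app U ((e.inv.f j).app U x) = x := fun j U x =>
    ConcreteCategory.congr_hom (congrArg (fun ψ : Φ'.X j ⟶ Φ'.X j => ψ.app U)
      ((HomologicalComplex.comp_f _ _ _).symm.trans (congrArg (fun ψ : Φ' ⟶ Φ' => ψ.f j) e.inv_hom_id))) x
  obtain ⟨y, hy⟩ := (exactAtObj_totCx_iff D Φ T).1 h n (fun p j h => (e.inv.f j).app _ (z p j h)) (by
    rw [hnat e.inv (n + 1) z, hz]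
    funext p j h
    exact map_zero _)
  refine ⟨fun p j h => (e.hom.f j).app _ (y p j h), ?_⟩
  rw [hnat e.hom n y, hy]
  funext p j h
  exact hinv j _ _

variable {S : Scheme.{u}} {G : BigSite.Ab Ke S} (R : InjectiveResolution G)

/-- inverse image of an injective resolution -/
noncomputable def pullRes {S' : Scheme.{u}} (e : S' ⟶ S) :
    InjectiveResolution ((BigSite.pullBig Ke e AddCommGrpCat.{u + 1}).obj G) where
  cocomplex := ((BigSite.pullBig Ke e AddCommGrpCat.{u + 1}).mapHomologicalComplex _).obj R.cocomplex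
  injective n := Groth.L23.Big.injective_pullBig e Ke (R.cocomplex.X n)
  ι := ((HomologicalComplex.singleMapHomologicalComplex (BigSite.pullBig Ke e AddCommGrpCat.{u + 1})
      (ComplexShape.up ℕ) 0).app G).inv ≫
    ((BigSite.pullBig Ke e AddCommGrpCat.{u + 1}).mapHomologicalComplex _).map R.ι
  quasiIso := by
    haveI : QuasiIso (((BigSite.pullBig Ke e AddCommGrpCat.{u + 1}).mapHomologicalComplex
        (ComplexShape.up ℕ)).map R.ι) := by
      rw [quasiIso_iff]
      intro i
      exact inferInstance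
    exact inferInstance

/-- its complex of presheaves -/
noncomputable def pullResIso {S' : Scheme.{u}} (e : S' ⟶ S) :
    preCx (pullRes R e).cochainComplex ≅ resCxP (Over.map e) (preCx R.cochainComplex) :=
  ((sheafToPresheaf _ _).mapHomologicalComplex (ComplexShape.up ℤ)).mapIso
    (Groth.L17.GrothSS.mapExtendIso (BigSite.pullBig Ke e AddCommGrpCat.{u + 1}) R.cocomplex
      ComplexShape.embeddingUpNat).symm

theorem isZero_totPre {X : Scheme.{u}} (f : X ⟶ S) (j : ℤ) (hj : j < 0) :
    IsZero ((totCx (datum f) (preCx R.cochainComplex)).X j) := by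
  haveI := isStrictlyGE_totShCx f R.cochainComplex
  exact (sheafToPresheaf _ _).map_isZero ((totShCx f R.cochainComplex).isZero_of_isStrictlyGE 0 j hj)

/-- descent for morphisms refined by a finite surjective one -/
theorem exactAtObj_dominated (hG : InImg G) {Z W : Scheme.{u}} (g : Z ⟶ S) (h : W ⟶ S) [IsFinite h] [Surjective h]
    (k : W ⟶ Z) (hk : k ≫ g = h) (T : Over S) : ExactAtObj (totCx (datum g) (preCx R.cochainComplex)) T := by
  have hA := exactAtObj_finite h R hG
  have htot : ExactAtObj (totCx (datum g) (totCx (datum h) (preCx R.cochainComplex))) T := by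
    refine (exactAtObj_totCx_iff _ _ T).2 fun n z hz => ?_
    obtain ⟨Sv, hSv, hSv'⟩ := lexact_tot (datum g) (totCx (datum h) (preCx R.cochainComplex))
      (GrothendieckTopology.trivial _) 0 (fun j hj => isZero_totPre R h j hj)
      (fun p j T z hz => ⟨⊤, GrothendieckTopology.top_mem _ _, fun T' a _ => by
        obtain ⟨y, hy⟩ := hA (((datum g).Q p).obj T) j z hz
        refine ⟨((totCx (datum h) (preCx R.cochainComplex)).X (j - 1)).map (((datum g).Q p).map a).op y, ?_⟩
        rw [NatTrans.naturality_apply ((totCx (datum h) (preCx R.cochainComplex)).d (j - 1) j) _ y, hy]⟩) n T z hz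
    rw [GrothendieckTopology.trivial_covering] at hSv
    obtain ⟨y, hy⟩ := hSv' (𝟙 T) (by rw [hSv]; trivial)
    refine ⟨y, hy.trans ?_⟩
    funext p j e
    simp [totMap]
  have hswap := exactAtObj_swap (datum g) (datum h) (preCx R.cochainComplex) (compatD g h) (compatE g h) T htot
  have hcol : ∀ q : ℕ, ExactAtObj (totCx (datum g) (preCx R.cochainComplex)) (((datum h).Q (q + 1)).obj T) :=
    fun q => exactAtObj_of_section g (T := qo h (q + 1) T) (qπ h (q + 1) T 0 ≫ k)
      ((Category.assoc _ _ _).trans ((congrArg (_ ≫ ·) hk).trans (qπ_f h (q + 1) T 0))) _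
  exact (exactAtObj_extract (datum h) _ T hswap hcol).of_iso (qZeroIso h T).symm

/-- the criterion for descent -/
theorem exactAtObj_descent (hG : InImg G) {X : Scheme.{u}} (f : X ⟶ S)
    (hloc : ∀ s : S, ∃ (S' : Scheme.{u}) (e : S' ⟶ S) (_ : Etale e) (_ : s ∈ Set.range e.base)
      (W : Scheme.{u}) (h : W ⟶ S') (_ : IsFinite h) (_ : Surjective h) (k : W ⟶ X), k ≫ f = h ≫ e) (T : Over S) :
    ExactAtObj (totCx (datum f) (preCx R.cochainComplex)) T := by
  refine exactAtObj_of_lexact f R.cochainComplex (fun n => lexact_of_exactAtObj (fun T => ?_) n) T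
  let Rv : Sieve T :=
    { arrows := fun T' _ => ∃ (S' : Scheme.{u}) (e : S' ⟶ S) (W : Scheme.{u}) (h : W ⟶ S') (_ : IsFinite h)
        (_ : Surjective h) (k : W ⟶ X), k ≫ f = h ≫ e ∧ ∃ g : T'.left ⟶ S', g ≫ e = T'.hom
      downward_closed := by
        rintro T' T'' a ⟨S', e, W, h, h1, h2, k, hk, g, hg⟩ b
        exact ⟨S', e, W, h, h1, h2, k, hk, b.left ≫ g, by rw [Category.assoc, hg, Over.w b]⟩ }
  refine ⟨Rv, ?_, ?_⟩
  · refine Groth.L27.Fppf.mem_Jet.2 fun t => ?_
    obtain ⟨S', e, he, ⟨s', hs'⟩, W, h, h1, h2, k, hk⟩ := hloc (T.hom.base t)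
    obtain ⟨y, hy1, -⟩ := Scheme.Pullback.exists_preimage_pullback (f := T.hom) (g := e) t s' hs'.symm
    exact ⟨Over.mk (pullback.fst T.hom e ≫ T.hom), Over.homMk (pullback.fst T.hom e) rfl, y,
      ⟨S', e, W, h, h1, h2, k, hk, pullback.snd T.hom e, pullback.condition.symm⟩,
      inferInstanceAs (Etale (pullback.fst T.hom e)), hy1⟩
  · rintro T' a ⟨S', e, W, h, h1, h2, k, hk, g, hg⟩
    have e1 : ExactAtObj (totCx (datum (pullback.snd f e)) (resCxP (Over.map e) (preCx R.cochainComplex))) (Over.mk g) :=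
      exactAtObj_totCx_of_iso _ (pullResIso R e) _ (exactAtObj_dominated (pullRes R e) (inImg_pullBig e hG)
        (pullback.snd f e) h (pullback.lift k h hk) (pullback.lift_snd _ _ _) (Over.mk g))
    exact (exactAtObj_baseChange f e _ _ e1).of_iso (Over.isoMk (Iso.refl _) ((Category.id_comp (g ≫ e)).trans hg) : T' ≅ (Over.map e).obj (Over.mk g))

end Groth.L10.EtDescent
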