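import Mathlib.RingTheory.Ideal.KrullsHeightTheorem
import Mathlib.RingTheory.Ideal.GoingDown
import Mathlib.RingTheory.Spectrum.Prime.Topology
import Mathlib.RingTheory.DiscreteValuationRing.Basic
import Mathlib.RingTheory.TensorProduct.Basic
import Mathlib.RingTheory.FiniteType
import Mathlib.RingTheory.Flat.Basic
import Mathlib.RingTheory.LocalRing.ResidueField.Ideal
import Mathlib.RingTheory.Ideal.MinimalPrime.Noetherian
import Mathlib.RingTheory.ZariskisMainTheorem

/-! A point cut out by a system of parameters of the closed fibre generizes to the generic fibre. -/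

universe u

open TensorProduct

set_option autoImplicit false
set_option backward.isDefEq.respectTransparency false
set_option linter.style.haveILetI false

namespace Groth.L10.EtDescent

/-- the last member of a chain pushed to a quotient by a smaller prime -/
theorem exists_ltSeries_quotient {P : Type u} [CommRing P] (q : Ideal P) [q.IsPrime]
    (l : LTSeries (PrimeSpectrum P)) (hq : q < l.head.asIdeal) :
    ∃ l' : LTSeries (PrimeSpectrum (P ⧸ q)), l'.length = l.length + 1 ∧
      (l'.last.asIdeal).comap (Ideal.Quotient.mk q) = l.last.asIdeal := by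
  let l₁ : LTSeries (PrimeSpectrum P) := l.cons ⟨q, ‹_›⟩ hq
  have hge : ∀ i, q ≤ (l₁ i).asIdeal := fun i =>
    PrimeSpectrum.asIdeal_le_asIdeal _ _ |>.2 (le_trans (le_of_eq (show (⟨q, ‹_›⟩ : PrimeSpectrum P) = l₁ 0 from (RelSeries.head_cons l ⟨q, ‹_›⟩ hq).symm)) (l₁.monotone (Fin.zero_le i)))
  let g : Fin (l₁.length + 1) → PrimeSpectrum (P ⧸ q) := fun i =>
    ⟨(l₁ i).asIdeal.map (Ideal.Quotient.mk q), Ideal.isPrime_map_quotientMk_of_isPrime (hge i)⟩
  have hgc : ∀ i, (g i).asIdeal.comap (Ideal.Quotient.mk q) = (l₁ i).asIdeal := fun i => by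
    simp only [g, Ideal.comap_map_of_surjective _ Ideal.Quotient.mk_surjective, ← RingHom.ker_eq_comap_bot,
      Ideal.mk_ker, sup_eq_left]
    exact hge i
  refine ⟨⟨l₁.length, g, fun i => ?_⟩, by simp [l₁], ?_⟩
  · refine lt_of_le_of_ne (Ideal.map_mono (le_of_lt (l₁.step i))) fun e => ne_of_lt (show l₁ i.castSucc < l₁ i.succ from l₁.step i) ?_
    refine PrimeSpectrum.ext ?_
    rw [← hgc i.castSucc, ← hgc i.succ]
    exact congrArg _ e
  · show (g (Fin.last _)).asIdeal.comap _ = _
    rw [hgc]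
    exact congrArg PrimeSpectrum.asIdeal (RelSeries.last_cons l ⟨q, ‹_›⟩ hq)

/-- the key lemma -/
theorem exists_generic_prime {R P : Type u} [CommRing R] [IsDomain R] [IsDiscreteValuationRing R] [CommRing P]
    [IsNoetherianRing P] [Algebra R P] (hopen : IsOpenMap (PrimeSpectrum.comap (algebraMap R P)))
    (π : R) (hπ : π ≠ 0) (m : Ideal P) [m.IsPrime] (s : Finset P) (hs : ↑s ⊆ (m : Set P))
    (hiso : ∀ r : Ideal P, r.IsPrime → r ≤ m → algebraMap R P π ∈ r → ↑s ⊆ (r : Set P) → r = m)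
    (l : LTSeries (PrimeSpectrum P)) (hlast : l.last.asIdeal = m) (hhead : algebraMap R P π ∈ l.head.asIdeal)
    (hlen : s.card ≤ l.length) :
    ∃ r : Ideal P, r.IsPrime ∧ r ≤ m ∧ ↑s ⊆ (r : Set P) ∧ algebraMap R P π ∉ r := by
  classical
  by_contra hne
  push Not at hne
  obtain ⟨q, hqmin, hq⟩ := Ideal.exists_minimalPrimes_le (bot_le : ⊥ ≤ l.head.asIdeal)
  haveI : q.IsPrime := hqmin.isPrime
  have hπq : algebraMap R P π ∉ q := by
    intro hmem
    let others : Finset (Ideal P) := (minimalPrimes.finite_of_isNoetherianRing P).toFinset.erase q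
    have hno : ¬ others.inf id ≤ q := by
      intro hle
      obtain ⟨q', hq', hle'⟩ := (Ideal.IsPrime.inf_le' (inferInstance : q.IsPrime)).1 hle
      obtain ⟨hne', hq'min⟩ := Finset.mem_erase.1 hq'
      rw [Set.Finite.mem_toFinset] at hq'min
      exact hne' (le_antisymm hle' (hqmin.2 hq'min.1 hle'))
    obtain ⟨f, hf, hfq⟩ := SetLike.not_le_iff_exists.1 hno
    have himg := hopen _ (PrimeSpectrum.basicOpen f).2
    have hbot : (⟨⊥, Ideal.isPrime_bot⟩ : PrimeSpectrum R) ∈
        PrimeSpectrum.comap (algebraMap R P) '' (PrimeSpectrum.basicOpen f : Set (PrimeSpectrum P)) :=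
      himg.stableUnderGeneralization ((PrimeSpectrum.le_iff_specializes _ _).1 (bot_le (a := (_ : Ideal R))))
        ⟨⟨q, ‹_›⟩, hfq, rfl⟩
    obtain ⟨P', hfP', hP'⟩ := hbot
    obtain ⟨q', hq'min, hq'⟩ := Ideal.exists_minimalPrimes_le (bot_le : ⊥ ≤ P'.asIdeal)
    by_cases e : q' = q
    · subst e
      have : π ∈ (PrimeSpectrum.comap (algebraMap R P) P').asIdeal := hq' hmem
      rw [hP'] at this
      exact hπ this
    · refine hfP' (hq' ?_)
      have hm : q' ∈ others := Finset.mem_erase.2 ⟨e, (Set.Finite.mem_toFinset _).2 hq'min⟩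
      exact (Finset.inf_le hm : others.inf id ≤ q') hf
  obtain ⟨l', hl', hl'last⟩ := exists_ltSeries_quotient q l (lt_of_le_of_ne hq fun e => hπq (e ▸ hhead))
  let s' : Finset (P ⧸ q) := s.image (Ideal.Quotient.mk q)
  have hmin : l'.last.asIdeal ∈ (Ideal.span (s' : Set (P ⧸ q))).minimalPrimes := by
    refine ⟨⟨l'.last.isPrime, Ideal.span_le.2 ?_⟩, fun J ⟨hJ, hJs⟩ hJle => ?_⟩
    · intro x hx
      obtain ⟨a, ha, rfl⟩ := Finset.mem_image.1 hx
      show a ∈ l'.last.asIdeal.comap (Ideal.Quotient.mk q)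
      rw [hl'last, hlast]
      exact hs ha
    · let r := J.comap (Ideal.Quotient.mk q)
      haveI : J.IsPrime := hJ
      have hrm : r ≤ m := hlast ▸ hl'last ▸ Ideal.comap_mono hJle
      have hsr : ↑s ⊆ (r : Set P) := fun a ha =>
        hJs (Ideal.subset_span (Finset.mem_image_of_mem _ ha))
      have e := hiso r inferInstance hrm (hne r inferInstance hrm hsr) hsr
      refine le_of_eq (Ideal.comap_injective_of_surjective _ Ideal.Quotient.mk_surjective ?_)
      rw [hl'last, hlast]
      exact e.symm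
  haveI := l'.last.isPrime
  have h1 := Ideal.height_le_card_of_mem_minimalPrimes_span_finset hmin
  rw [PrimeSpectrum.height_eq_orderHeight] at h1
  have h2 : (l'.length : ℕ∞) ≤ Order.height l'.last := Order.length_le_height_last
  have h3 := h2.trans (h1.trans (Nat.cast_le.2 Finset.card_image_le))
  rw [hl', Nat.cast_le] at h3
  omega

/-- parameters at a closed point of a fibre -/
theorem exists_params {A B : Type u} [CommRing A] [CommRing B] [Algebra A B] [Algebra.FiniteType A B]
    (p : Ideal A) [p.IsPrime] (m : Ideal (p.Fiber B)) [m.IsMaximal] :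
    ∃ (s : Finset B) (l : LTSeries (PrimeSpectrum (p.Fiber B))), l.length = s.card ∧ l.last.asIdeal = m ∧
      (∀ b ∈ s, (1 : p.ResidueField) ⊗ₜ[A] b ∈ m) ∧
      ∀ (q : PrimeSpectrum (B ⧸ Ideal.span (s : Set B))),
        q.asIdeal.comap (Ideal.Quotient.mk _) = m.comap Algebra.TensorProduct.includeRight.toRingHom →
          Algebra.QuasiFiniteAt A q.asIdeal := by
  classical
  haveI : Algebra.FiniteType p.ResidueField (p.Fiber B) := inferInstance
  haveI : IsNoetherianRing (p.Fiber B) := Algebra.FiniteType.isNoetherianRing p.ResidueField _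
  obtain ⟨s₀, hmin, hcard⟩ := m.exists_finset_card_eq_height_of_isNoetherianRing
  obtain ⟨l, hlast, hlen⟩ := m.exists_ltSeries_length_eq_height
  choose r hr b hb using fun c : p.Fiber B => Ideal.Fiber.exists_smul_eq_one_tmul p c
  let ι : B →+* p.Fiber B := Algebra.TensorProduct.includeRight.toRingHom
  have hunit : ∀ c, IsUnit (algebraMap A (p.Fiber B) (r c)) := fun c => by
    rw [IsScalarTower.algebraMap_apply A p.ResidueField (p.Fiber B)]
    exact (isUnit_iff_ne_zero.2 fun h => hr c (Ideal.algebraMap_residueField_eq_zero.1 h)).map _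
  have hιb : ∀ c, ι (b c) = algebraMap A (p.Fiber B) (r c) * c := fun c => by
    rw [← Algebra.smul_def, hb]; rfl
  have hmem : ∀ (J : Ideal (p.Fiber B)) c, ι (b c) ∈ J ↔ c ∈ J := fun J c => by
    rw [hιb]; exact J.unit_mul_mem_iff_mem (hunit c)
  have hbs : (s₀.image b).card ≤ s₀.card := Finset.card_image_le
  have hs₀m : ↑s₀ ⊆ (m : Set (p.Fiber B)) := Ideal.span_le.1 hmin.1.2
  refine ⟨s₀.image b, l.take ⟨(s₀.image b).card, ?_⟩, rfl, ?_, ?_, ?_⟩
  · have : (l.length : ℕ∞) = s₀.card := hlen.trans hcard.symm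
    rw [Nat.cast_inj] at this
    omega
  · have hle : (Ideal.span ((s₀.image b).image ι : Set (p.Fiber B))) = Ideal.span s₀ := by
      refine le_antisymm (Ideal.span_le.2 fun x hx => ?_) (Ideal.span_le.2 fun x hx => ?_)
      · obtain ⟨y, hy, rfl⟩ := Finset.mem_image.1 hx
        obtain ⟨c, hc, rfl⟩ := Finset.mem_image.1 hy
        exact (hmem _ c).2 (Ideal.subset_span hc)
      · exact (hmem _ x).1 (Ideal.subset_span (Finset.mem_image_of_mem _ (Finset.mem_image_of_mem _ hx)))
    have h1 : m.height ≤ ((s₀.image b).image ι).card := by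
      refine Ideal.height_le_card_of_mem_minimalPrimes_span_finset ?_
      rw [hle]; exact hmin
    have h2 : (s₀.image b).card = s₀.card := by
      refine le_antisymm hbs ?_
      have := h1.trans (Nat.cast_le.2 (Finset.card_image_le))
      rwa [← hcard, Nat.cast_le] at this
    have h3 : l.length = (s₀.image b).card := by
      rw [h2]; exact Nat.cast_inj.1 (hlen.trans hcard.symm)
    rw [RelSeries.last_take]
    have : (⟨(s₀.image b).card, by omega⟩ : Fin (l.length + 1)) = Fin.last l.length := Fin.ext h3.symm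
    rw [this]
    exact congrArg PrimeSpectrum.asIdeal hlast
  · intro x hx
    obtain ⟨c, hc, rfl⟩ := Finset.mem_image.1 hx
    exact (hmem m c).2 (hs₀m hc)
  intro q hq
  rw [Algebra.quasiFiniteAt_iff_isOpen_singleton_fiber]
  let others : Finset (Ideal (p.Fiber B)) :=
    ((Ideal.finite_minimalPrimes_of_isNoetherianRing (p.Fiber B) (Ideal.span (s₀ : Set (p.Fiber B)))).toFinset).erase m
  have hno : ¬ others.inf id ≤ m := by
    intro hle
    obtain ⟨q', hq', hle'⟩ := (Ideal.IsPrime.inf_le' (inferInstance : m.IsPrime)).1 hle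
    obtain ⟨hne', hq'min⟩ := Finset.mem_erase.1 hq'
    rw [Set.Finite.mem_toFinset] at hq'min
    exact hne' (le_antisymm hle' (hmin.2 hq'min.1 hle'))
  obtain ⟨f, hf, hfm⟩ := SetLike.not_le_iff_exists.1 hno
  let mk := Ideal.Quotient.mk (Ideal.span (s₀.image b : Set B))
  refine isOpen_induced_iff.2 ⟨PrimeSpectrum.basicOpen (mk (b f)), (PrimeSpectrum.basicOpen _).2, ?_⟩
  ext ⟨q', hq'⟩
  refine ⟨fun hq'f => ?_, fun e => ?_⟩
  · refine Subtype.ext (PrimeSpectrum.ext (Ideal.comap_injective_of_surjective _ Ideal.Quotient.mk_surjective ?_))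
    show q'.asIdeal.comap mk = q.asIdeal.comap mk
    have hcomap : ∀ t : PrimeSpectrum (B ⧸ Ideal.span (s₀.image b : Set B)),
        (t.asIdeal.comap mk).comap (algebraMap A B) = t.asIdeal.comap (algebraMap A _) := fun t =>
      Ideal.comap_comap (algebraMap A B) mk
    have hqp : (q.asIdeal.comap mk).comap (algebraMap A B) = p := by
      rw [hq, Ideal.comap_comap]
      show m.comap ((ι).comp (algebraMap A B)) = p
      rw [show ι.comp (algebraMap A B) = algebraMap A (p.Fiber B) from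
        Algebra.TensorProduct.includeRight.comp_algebraMap]
      exact (m.over_def p).symm
    have hq'p : (q'.asIdeal.comap mk).comap (algebraMap A B) = p := by
      refine (hcomap q').trans (Eq.trans ?_ ((hcomap q).symm.trans hqp))
      exact congrArg PrimeSpectrum.asIdeal hq'
    let e := PrimeSpectrum.primesOverOrderIsoFiber A B p
    haveI := q'.isPrime
    let Q := e ⟨q'.asIdeal.comap mk, inferInstance, ⟨hq'p.symm⟩⟩
    have hQ : Q.asIdeal.comap ι = q'.asIdeal.comap mk :=
      congrArg Subtype.val (e.symm_apply_apply ⟨q'.asIdeal.comap mk, inferInstance, ⟨hq'p.symm⟩⟩)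
    have hsQ : Ideal.span (s₀ : Set (p.Fiber B)) ≤ Q.asIdeal := Ideal.span_le.2 fun c hc => (hmem _ c).1 (by
      show b c ∈ Q.asIdeal.comap ι
      rw [hQ]
      show mk (b c) ∈ q'.asIdeal
      rw [Ideal.Quotient.eq_zero_iff_mem.2 (Ideal.subset_span (Finset.mem_image_of_mem _ hc))]
      exact zero_mem _)
    have hfQ : f ∉ Q.asIdeal := fun h => hq'f (by
      have : b f ∈ Q.asIdeal.comap ι := (hmem _ f).2 h
      rwa [hQ] at this)
    obtain ⟨m', hm', hm'Q⟩ := Ideal.exists_minimalPrimes_le hsQ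
    by_cases he : m' = m
    · subst he
      have : m' = Q.asIdeal := Ideal.IsMaximal.eq_of_le inferInstance Q.isPrime.ne_top hm'Q
      rw [hq, ← hQ, this]
    · refine absurd (hm'Q ?_) hfQ
      have hm : m' ∈ others := Finset.mem_erase.2 ⟨he, (Set.Finite.mem_toFinset _).2 hm'⟩
      exact (Finset.inf_le hm : others.inf id ≤ m') hf
  · cases e
    show mk (b f) ∉ q.asIdeal
    intro h
    have h' : b f ∈ m.comap ι := hq ▸ h
    exact hfm ((hmem m f).1 h')

/-- chains in a closed fibre lift to a base change -/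
theorem exists_chain_lift {A B R K C k L : Type u} [CommRing A] [CommRing B] [Algebra A B] [CommRing R] [Algebra A R]
    [Field K] [Algebra A K] [CommRing C] [Algebra K C] [Algebra A C] [IsScalarTower A K C]
    [CommRing k] [Algebra K k] [Algebra A k] [IsScalarTower A K k]
    [Field L] [Algebra K L] [Algebra A L] [IsScalarTower A K L]
    (qR : R →ₐ[A] k) (hqR : Function.Surjective qR)
    (ι : B →ₐ[A] C) (hgen : ∀ c : C, c ∈ Submodule.span K (Set.range ι))
    (ρk : k →ₐ[K] L) (ρC : C →ₐ[K] L)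
    (l : LTSeries (PrimeSpectrum C)) (hlast : l.last.asIdeal = RingHom.ker ρC.toRingHom) :
    ∃ l' : LTSeries (PrimeSpectrum (R ⊗[A] B)), l'.length = l.length ∧
      (∀ r b, r ⊗ₜ[A] b ∈ l'.last.asIdeal ↔ ρk (qR r) * ρC (ι b) = 0) ∧
      (∀ x : R ⊗[A] B, x ∈ l'.last.asIdeal ↔
        Algebra.TensorProduct.lift ((ρk.restrictScalars A).comp qR) ((ρC.restrictScalars A).comp ι)
          (fun _ _ => Commute.all _ _) x = 0) ∧
      ∀ r, qR r = 0 → r ⊗ₜ[A] (1 : B) ∈ l'.head.asIdeal := by
  let ιk : k →ₐ[K] C ⊗[K] k := Algebra.TensorProduct.includeRight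
  let ιC : C →ₐ[K] C ⊗[K] k := Algebra.TensorProduct.includeLeft
  let θ : R ⊗[A] B →ₐ[A] C ⊗[K] k :=
    Algebra.TensorProduct.lift ((ιk.restrictScalars A).comp qR) ((ιC.restrictScalars A).comp ι)
      (fun _ _ => Commute.all _ _)
  have hθ : Function.Surjective θ := by
    intro c
    induction c with
    | zero => exact ⟨0, map_zero θ⟩
    | add x y hx hy =>
      obtain ⟨a, rfl⟩ := hx
      obtain ⟨a', rfl⟩ := hy
      exact ⟨a + a', map_add θ _ _⟩
    | tmul c x =>
      refine Submodule.span_induction (p := fun c _ => ∀ x : k, ∃ y, θ y = c ⊗ₜ[K] x) ?_ ?_ ?_ ?_ (hgen c) x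
      · rintro _ ⟨b, rfl⟩ x
        obtain ⟨ρ, rfl⟩ := hqR x
        exact ⟨ρ ⊗ₜ b, by simp [θ, ιk, ιC]⟩
      · exact fun x => ⟨0, by rw [map_zero, TensorProduct.zero_tmul]⟩
      · intro c c' _ _ h h' x
        obtain ⟨a, ha⟩ := h x
        obtain ⟨a', ha'⟩ := h' x
        exact ⟨a + a', by rw [map_add, ha, ha', TensorProduct.add_tmul]⟩
      · intro κ c _ h x
        obtain ⟨a, ha⟩ := h (κ • x)
        exact ⟨a, by rw [ha, TensorProduct.smul_tmul]⟩
  let χ : C ⊗[K] k →ₐ[K] L := Algebra.TensorProduct.lift ρC ρk (fun _ _ => Commute.all _ _)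
  have hχ : ∀ x, χ (θ x) =
      Algebra.TensorProduct.lift ((ρk.restrictScalars A).comp qR) ((ρC.restrictScalars A).comp ι)
        (fun _ _ => Commute.all _ _) x := by
    intro x
    induction x with
    | zero => simp
    | add a b ha hb => rw [map_add, map_add, map_add, ha, hb]
    | tmul a b => simp [θ, χ, ιk, ιC, mul_comm]
  let m' : PrimeSpectrum (C ⊗[K] k) := ⟨RingHom.ker χ.toRingHom, RingHom.ker_isPrime _⟩
  haveI : (m'.asIdeal).LiesOver l.last.asIdeal := ⟨by
    rw [Ideal.under_def, hlast]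
    ext c
    show ρC c = 0 ↔ χ (c ⊗ₜ 1) = 0
    simp [χ]⟩
  haveI : m'.asIdeal.IsPrime := m'.isPrime
  obtain ⟨L', hL, hLlast, -⟩ := Ideal.exists_ltSeries_of_hasGoingDown (S := C ⊗[K] k) l m'.asIdeal
  let f : PrimeSpectrum (C ⊗[K] k) → PrimeSpectrum (R ⊗[A] B) := PrimeSpectrum.comap θ.toRingHom
  have hf : StrictMono f := fun a b hab =>
    lt_of_le_of_ne (Ideal.comap_mono hab.le) fun e => hab.ne (PrimeSpectrum.comap_injective_of_surjective _ hθ e)
  refine ⟨L'.map f hf, hL, fun r b => ?_, fun x => ?_, fun r hr => ?_⟩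
  · rw [LTSeries.last_map, hLlast]
    show χ (θ (r ⊗ₜ b)) = 0 ↔ _
    rw [hχ]; simp
  · rw [LTSeries.last_map, hLlast]
    show χ (θ x) = 0 ↔ _
    rw [hχ]
  · rw [LTSeries.head_map]
    show θ (r ⊗ₜ 1) ∈ L'.head.asIdeal
    have : θ (r ⊗ₜ 1) = 0 := by simp [θ, ιk, hr]
    rw [this]; exact zero_mem _

/-- generization to the generic fibre over a discrete valuation ring -/
theorem exists_generization {A B R : Type u} [CommRing A] [CommRing B] [Algebra A B] [Algebra.FiniteType A B]
    [CommRing R] [IsDomain R] [IsDiscreteValuationRing R] [Algebra A R]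
    (p : Ideal A) [p.IsPrime] (hp : (IsLocalRing.maximalIdeal R).comap (algebraMap A R) = p)
    (hopen : IsOpenMap (PrimeSpectrum.comap (algebraMap R (R ⊗[A] B))))
    (π : R) (hπ : π ≠ 0) (hπm : π ∈ IsLocalRing.maximalIdeal R)
    (s : Finset B) (m₀ : Ideal (p.Fiber B)) [m₀.IsPrime] (l : LTSeries (PrimeSpectrum (p.Fiber B)))
    (hlen : l.length = s.card) (hlast : l.last.asIdeal = m₀)
    (m : Ideal (R ⊗[A] B)) [m.IsPrime] (hmR : m.comap (algebraMap R _) = IsLocalRing.maximalIdeal R)
    (hmB : m.comap Algebra.TensorProduct.includeRight.toRingHom =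
      m₀.comap Algebra.TensorProduct.includeRight.toRingHom)
    (hsm : ∀ b ∈ s, (1 : R) ⊗ₜ[A] b ∈ m)
    (hiso : ∀ r : Ideal (R ⊗[A] B), r.IsPrime → r ≤ m → algebraMap R _ π ∈ r →
      (∀ b ∈ s, (1 : R) ⊗ₜ[A] b ∈ r) → r = m) :
    ∃ r : Ideal (R ⊗[A] B), r.IsPrime ∧ r ≤ m ∧ (∀ b ∈ s, (1 : R) ⊗ₜ[A] b ∈ r) ∧ algebraMap R _ π ∉ r := by
  classical
  haveI : IsNoetherianRing (R ⊗[A] B) := Algebra.FiniteType.isNoetherianRing R _
  let k := IsLocalRing.ResidueField R
  have hker : ∀ a : A, algebraMap A k a = 0 ↔ a ∈ p := fun a => by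
    rw [IsScalarTower.algebraMap_apply A R k, ← hp, Ideal.mem_comap]
    exact Ideal.Quotient.eq_zero_iff_mem
  let j : p.ResidueField →ₐ[A] k := Ideal.ResidueField.liftₐ p (Algebra.ofId A k)
    (fun a ha => (hker a).2 ha) (fun a ha => isUnit_iff_ne_zero.2 fun h => ha ((hker a).1 h))
  letI : Algebra p.ResidueField k := j.toAlgebra
  haveI : IsScalarTower A p.ResidueField k := IsScalarTower.of_algebraMap_eq fun a => (j.commutes a).symm
  let κm := m.ResidueField
  let χ₀ : R ⊗[A] B →ₐ[A] κm := IsScalarTower.toAlgHom A _ κm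
  have hχ₀ : ∀ x, χ₀ x = 0 ↔ x ∈ m := fun x => Ideal.algebraMap_residueField_eq_zero
  let ρk₀ : k →+* κm := Ideal.Quotient.lift (IsLocalRing.maximalIdeal R) (χ₀.toRingHom.comp (algebraMap R _))
    (fun x hx => (hχ₀ _).2 (by rw [← hmR] at hx; exact hx))
  have hρk : ∀ x : R, ρk₀ (algebraMap R k x) = χ₀ (x ⊗ₜ 1) := fun x => rfl
  letI : Algebra p.ResidueField κm := (ρk₀.comp (algebraMap p.ResidueField k)).toAlgebra
  haveI : IsScalarTower A p.ResidueField κm := IsScalarTower.of_algebraMap_eq fun a => by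
    show algebraMap A κm a = ρk₀ (j (algebraMap A p.ResidueField a))
    rw [j.commutes, IsScalarTower.algebraMap_apply A R k, hρk]
    exact (χ₀.commutes a).symm
  let ρk : k →ₐ[p.ResidueField] κm := { ρk₀ with commutes' := fun _ => rfl }
  let ρC : p.Fiber B →ₐ[p.ResidueField] κm := Algebra.TensorProduct.lift (Algebra.ofId _ _)
    (χ₀.comp Algebra.TensorProduct.includeRight) (fun _ _ => Commute.all _ _)
  haveI : (RingHom.ker ρC.toRingHom).IsPrime := RingHom.ker_isPrime _
  have hC : m₀ = RingHom.ker ρC.toRingHom := by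
    let e := PrimeSpectrum.primesOverOrderIsoFiber A B p
    suffices (⟨m₀, ‹_›⟩ : PrimeSpectrum (p.Fiber B)) = ⟨RingHom.ker ρC.toRingHom, inferInstance⟩ from
      congrArg PrimeSpectrum.asIdeal this
    refine e.symm.injective (Subtype.ext (hmB.symm.trans ?_))
    refine Ideal.ext fun b => ?_
    show _ ↔ ρC ((1 : p.ResidueField) ⊗ₜ[A] b) = 0
    simp [ρC, hχ₀]
  obtain ⟨l', hl', -, hl'last, hl'head⟩ := exists_chain_lift (R := R) (L := κm) (IsScalarTower.toAlgHom A R k)
    Ideal.Quotient.mk_surjective Algebra.TensorProduct.includeRight (fun c => by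
      induction c using TensorProduct.induction_on with
      | zero => exact zero_mem _
      | add a b ha hb => exact add_mem ha hb
      | tmul a b =>
        have : (a ⊗ₜ[A] b : p.Fiber B) = a • ((1 : p.ResidueField) ⊗ₜ[A] b) := by
          rw [TensorProduct.smul_tmul', smul_eq_mul, mul_one]
        rw [this]
        exact Submodule.smul_mem _ _ (Submodule.subset_span ⟨b, rfl⟩))
    ρk ρC l (hlast.trans hC)
  have hlift : Algebra.TensorProduct.lift ((ρk.restrictScalars A).comp (IsScalarTower.toAlgHom A R k))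
      ((ρC.restrictScalars A).comp Algebra.TensorProduct.includeRight) (fun _ _ => Commute.all _ _) = χ₀ := by
    refine Algebra.TensorProduct.ext' fun a b => ?_
    simp [ρk, ρC, hρk, ← map_mul]
  have hlm : l'.last.asIdeal = m := Ideal.ext fun x => by rw [hl'last, hlift, hχ₀]
  obtain ⟨r, h1, h2, h3, h4⟩ := exists_generic_prime hopen π hπ m (s.image fun b => (1 : R) ⊗ₜ[A] b)
    (fun x hx => by obtain ⟨b, hb, rfl⟩ := Finset.mem_image.1 hx; exact hsm b hb)
    (fun r hr hle hπr hs => hiso r hr hle hπr fun b hb => hs (Finset.mem_image_of_mem _ hb))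
    l' hlm (hl'head π (Ideal.Quotient.eq_zero_iff_mem.2 hπm))
    (by rw [hl', hlen]; exact Finset.card_image_le)
  exact ⟨r, h1, h2, fun b hb => h3 (Finset.mem_image_of_mem _ hb), h4⟩

end Groth.L10.EtDescent
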