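import Groth.Agent.L10.EtDescent.Tot
import Mathlib.Algebra.Homology.Additive

/-! Commuting two Čech directions, and extracting exactness from a total complex. -/

universe w v u v' u'

open CategoryTheory CategoryTheory.Limits Opposite

set_option autoImplicit false
set_option backward.isDefEq.respectTransparency false

namespace Groth.L10.EtDescent

variable {C : Type u} [Category.{v} C]

/-- composition of a presheaf with one level of a datum -/
abbrev preQ (E : Datum.{w} C) (q : ℕ) (F : Cᵒᵖ ⥤ AddCommGrpCat.{w}) : Cᵒᵖ ⥤ AddCommGrpCat.{w} := (E.Q q).op ⋙ F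

/-- exactness is invariant under isomorphisms of objects -/
theorem ExactAtObj.of_iso {L : CochainComplex (Cᵒᵖ ⥤ AddCommGrpCat.{w}) ℤ} {S T : C} (e : T ≅ S)
    (h : ExactAtObj L S) : ExactAtObj L T := by
  intro n z hz
  obtain ⟨y, hy⟩ := h n ((L.X n).map e.inv.op z) (by
    rw [NatTrans.naturality_apply (L.d n (n + 1)) e.inv.op z, hz, map_zero])
  refine ⟨(L.X (n - 1)).map e.hom.op y, ?_⟩
  rw [NatTrans.naturality_apply (L.d (n - 1) n) e.hom.op y, hy, ← ConcreteCategory.comp_apply, ← Functor.map_comp,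
    ← op_comp, e.hom_inv_id]
  simp

variable (D E : Datum.{w} C) (Φ : CochainComplex (Cᵒᵖ ⥤ AddCommGrpCat.{w}) ℤ)

/-- a component of the inner total complex, as a map of presheaves -/
def projT (m : ℤ) (p : ℕ) (j : ℤ) (h : (p : ℤ) + j = m) : totPre D Φ m ⟶ preQ D p (Φ.X j) where
  app T := AddCommGrpCat.ofHom { toFun := fun z => z p j h, map_zero' := rfl, map_add' := fun _ _ => rfl }
  naturality T T' a := by ext z; rfl

/-- nested sections -/
abbrev NX (n : ℤ) (T : C) : Type w := TotX E (totCx D Φ) n T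

/-- a component of nested sections -/
def get {n : ℤ} {T : C} (z : NX D E Φ n T) (q : ℕ) (m : ℤ) (h : (q : ℤ) + m = n) (p : ℕ) (j : ℤ)
    (h' : (p : ℤ) + j = m) : (Φ.X j).obj (op ((D.Q p).obj ((E.Q q).obj T))) :=
  (z q m h : TotX D Φ m ((E.Q q).obj T)) p j h'

theorem get_cast {n : ℤ} {T : C} (z : NX D E Φ n T) (q : ℕ) {m m' : ℤ} (e : m = m') (h : (q : ℤ) + m = n)
    (h₂ : (q : ℤ) + m' = n) (p : ℕ) (j : ℤ) (h' : (p : ℤ) + j = m) :
    get D E Φ z q m h p j h' = get D E Φ z q m' h₂ p j (h'.trans e) := by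
  subst e; rfl

/-- the inner differential on components -/
def innerD {n : ℤ} {T : C} (z : NX D E Φ n T) (q : ℕ) :
    ∀ (p : ℕ) (j : ℤ), (q : ℤ) + p + j = n + 1 → (Φ.X j).obj (op ((D.Q p).obj ((E.Q q).obj T)))
  | 0, j, h => (Φ.d (j - 1) j).app _ (get D E Φ z q (j - 1) (by omega) 0 (j - 1) (by omega))
  | p + 1, j, h => D.δ (Φ.X j) p ((E.Q q).obj T) (get D E Φ z q (n - q) (by omega) p j (by push_cast at h ⊢; omega)) +
      (((p + 1 : ℕ) : ℤ).negOnePow : ℤ) • (Φ.d (j - 1) j).app _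
        (get D E Φ z q (n - q) (by omega) (p + 1) (j - 1) (by push_cast at h ⊢; omega))

theorem inner_apply {n : ℤ} {T : C} (z : NX D E Φ n T) (q : ℕ) (m : ℤ) (h : (q : ℤ) + m = n + 1) (p : ℕ) (j : ℤ)
    (h' : (p : ℤ) + j = m) :
    ((((totCx D Φ).d (m - 1) m).app (op ((E.Q q).obj T))) (z q (m - 1) (by omega)) : TotX D Φ m ((E.Q q).obj T)) p j h' =
      innerD D E Φ z q p j (by omega) := by
  obtain ⟨m₀, rfl⟩ : ∃ m₀, m = m₀ + 1 := ⟨m - 1, by omega⟩
  have key : ∀ i, ∀ hi : i = m₀, ∀ hq : (q : ℤ) + i = n,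
      ((((totCx D Φ).d i (m₀ + 1)).app (op ((E.Q q).obj T))) (z q i hq) : TotX D Φ (m₀ + 1) ((E.Q q).obj T)) p j h' =
        innerD D E Φ z q p j (by omega) := by
    rintro i rfl hq
    rw [totCx_d_app]
    cases p with
    | zero =>
      rw [totD_zero_apply]
      refine congrArg _ ?_
      exact get_cast D E Φ z q (by omega) hq (by omega) 0 (j - 1) (by omega)
    | succ p =>
      rw [totD_succ_apply]
      change _ = _ + _
      congr 1
      · exact congrArg _ (get_cast D E Φ z q (by omega) hq (by omega) p j (by push_cast at h' ⊢; omega))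
      · exact congrArg (fun x => (((p + 1 : ℕ) : ℤ).negOnePow : ℤ) • (Φ.d (j - 1) j).app _ x)
          (get_cast D E Φ z q (by omega) hq (by omega) (p + 1) (j - 1) (by push_cast at h' ⊢; omega))
  exact key (m₀ + 1 - 1) (by omega) _

theorem nd_zero {n : ℤ} {T : C} (z : NX D E Φ n T) (m : ℤ) (h : ((0 : ℕ) : ℤ) + m = n + 1) (p : ℕ) (j : ℤ)
    (h' : (p : ℤ) + j = m) :
    get D E Φ (totD E (totCx D Φ) n T z) 0 m h p j h' = innerD D E Φ z 0 p j (by omega) := by
  unfold get
  rw [totD_zero_apply]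
  exact inner_apply D E Φ z 0 m h p j h'

theorem nd_succ {n : ℤ} {T : C} (z : NX D E Φ n T) (q : ℕ) (m : ℤ) (h : ((q + 1 : ℕ) : ℤ) + m = n + 1) (p : ℕ) (j : ℤ)
    (h' : (p : ℤ) + j = m) :
    get D E Φ (totD E (totCx D Φ) n T z) (q + 1) m h p j h' =
      (show (Φ.X j).obj (op ((D.Q p).obj ((E.Q (q + 1)).obj T))) from
        E.δ (preQ D p (Φ.X j)) q T (get D E Φ z q m (by push_cast at h; omega) p j h')) +
        (((q + 1 : ℕ) : ℤ).negOnePow : ℤ) • innerD D E Φ z (q + 1) p j (by push_cast at h ⊢; omega) := by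
  unfold get
  rw [totD_succ_apply]
  have e1 := E.δ_natF (projT D Φ m p j h') q T (z q m (by push_cast at h; omega))
  have e2 := inner_apply D E Φ z (q + 1) m h p j h'
  refine Eq.trans ?_ (congrArg₂ (· + ·) e1 (congrArg ((((q + 1 : ℕ) : ℤ).negOnePow : ℤ) • ·) e2))
  rfl

variable (τ : ∀ (p q : ℕ) (T : C), (D.Q p).obj ((E.Q q).obj T) ≅ (E.Q q).obj ((D.Q p).obj T))

/-- compatibility of the interchange with the first direction -/
def CompatD : Prop :=
  ∀ (F : Cᵒᵖ ⥤ AddCommGrpCat.{w}) (p q : ℕ) (T : C) (x : F.obj (op ((E.Q q).obj ((D.Q p).obj T)))),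
    F.map (τ (p + 1) q T).hom.op (D.δ (preQ E q F) p T x) =
      D.δ F p ((E.Q q).obj T) (F.map (τ p q T).hom.op x)

/-- compatibility of the interchange with the second direction -/
def CompatE : Prop :=
  ∀ (F : Cᵒᵖ ⥤ AddCommGrpCat.{w}) (p q : ℕ) (T : C) (x : F.obj (op ((D.Q p).obj ((E.Q q).obj T)))),
    F.map (τ p (q + 1) T).inv.op (E.δ (preQ D p F) q T x) =
      E.δ F q ((D.Q p).obj T) (F.map (τ p q T).inv.op x)

/-- the sign of the interchange -/
def sgn (p q : ℕ) : ℤ := (((p * q : ℕ) : ℤ).negOnePow : ℤ)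

/-- interchange of nested sections -/
def swapN (n : ℤ) (T : C) : NX E D Φ n T →+ NX D E Φ n T where
  toFun w := fun q m h p j h' =>
    sgn p q • (Φ.X j).map (τ p q T).hom.op (get E D Φ w p ((q : ℤ) + j) (by omega) q j rfl)
  map_zero' := by
    funext q m h p j h'
    show sgn p q • (Φ.X j).map (τ p q T).hom.op 0 = 0
    rw [map_zero, smul_zero]
  map_add' w w' := by
    funext q m h p j h'
    show sgn p q • (Φ.X j).map (τ p q T).hom.op (_ + _) = _
    rw [map_add, smul_add]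
    rfl

theorem get_swapN {n : ℤ} {T : C} (w : NX E D Φ n T) (q : ℕ) (m : ℤ) (h : (q : ℤ) + m = n) (p : ℕ) (j : ℤ)
    (h' : (p : ℤ) + j = m) (m' : ℤ) (e : (q : ℤ) + j = m') :
    get D E Φ (swapN D E Φ τ n T w) q m h p j h' =
      sgn p q • (Φ.X j).map (τ p q T).hom.op (get E D Φ w p m' (by omega) q j e) := by
  subst e; rfl

variable {τ} (hD : CompatD D E τ) (hE : CompatE D E τ)

include hE in
theorem compatE' (F : Cᵒᵖ ⥤ AddCommGrpCat.{w}) (p q : ℕ) (T : C) (x : F.obj (op ((E.Q q).obj ((D.Q p).obj T)))) :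
    E.δ (preQ D p F) q T (F.map (τ p q T).hom.op x) =
      F.map (τ p (q + 1) T).hom.op (E.δ F q ((D.Q p).obj T) x) := by
  have h := congrArg (F.map (τ p (q + 1) T).hom.op) (hE F p q T (F.map (τ p q T).hom.op x))
  simp only [← ConcreteCategory.comp_apply, ← Functor.map_comp, ← op_comp, Iso.hom_inv_id, Iso.inv_hom_id,
    op_id, CategoryTheory.Functor.map_id] at h
  simpa using h

include hE hD in
theorem swapN_totD (n : ℤ) (T : C) (w : NX E D Φ n T) :
    swapN D E Φ τ (n + 1) T (totD D (totCx E Φ) n T w) = totD E (totCx D Φ) n T (swapN D E Φ τ n T w) := by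
  funext q m h p j h'
  change get D E Φ _ q m h p j h' = get D E Φ _ q m h p j h'
  rw [get_swapN D E Φ τ _ q m h p j h' ((q : ℤ) + j) rfl]
  cases q with
  | zero =>
    rw [nd_zero]
    cases p with
    | zero =>
      rw [nd_zero]
      simp only [innerD]
      rw [get_swapN D E Φ τ w 0 (j - 1) (by omega) 0 (j - 1) (by omega) (j - 1) (by omega)]
      simp only [sgn, Nat.mul_zero, Nat.cast_zero, Int.negOnePow_zero, Units.val_one, one_smul]
      exact (NatTrans.naturality_apply (Φ.d (j - 1) j) (τ 0 0 T).hom.op _).symm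
    | succ p =>
      rw [nd_succ]
      simp only [innerD]
      rw [get_swapN D E Φ τ w 0 (n - (0 : ℕ)) (by omega) p j (by push_cast at h' ⊢; omega) j (by omega),
        get_swapN D E Φ τ w 0 (n - (0 : ℕ)) (by omega) (p + 1) (j - 1) (by push_cast at h' ⊢; omega) (j - 1) (by omega)]
      simp only [sgn, Nat.mul_zero, Nat.cast_zero, Int.negOnePow_zero, Units.val_one, one_smul, map_add, map_zsmul]
      rw [hD, NatTrans.naturality_apply (Φ.d (j - 1) j) (τ (p + 1) 0 T).hom.op]
      congr 2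
      exact congrArg ((Φ.X j).map (τ p 0 T).hom.op) (get_cast E D Φ w p (by omega) _ (by push_cast at h' ⊢; omega) 0 j _)
  | succ q =>
    cases p with
    | zero =>
      rw [nd_succ, nd_zero]
      simp only [innerD]
      rw [get_swapN D E Φ τ w q m (by push_cast at h; omega) 0 j h' ((q : ℤ) + j) rfl,
        get_swapN D E Φ τ w (q + 1) (j - 1) (by push_cast at h ⊢; omega) 0 (j - 1) (by omega) (((q + 1 : ℕ) : ℤ) + (j - 1)) rfl]
      simp only [sgn, Nat.zero_mul, Nat.cast_zero, Int.negOnePow_zero, Units.val_one, one_smul, map_add, map_zsmul]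
      rw [compatE' D E hE, NatTrans.naturality_apply (Φ.d (j - 1) j) (τ 0 (q + 1) T).hom.op]
      congr 1
      · exact congrArg (fun x => (Φ.X j).map (τ 0 (q + 1) T).hom.op (E.δ (Φ.X j) q _ x))
          (get_cast E D Φ w 0 (by push_cast at h ⊢; omega) _ (by push_cast at h ⊢; omega) q j _)
      · exact congrArg (fun x => (((q + 1 : ℕ) : ℤ).negOnePow : ℤ) • (Φ.X j).map (τ 0 (q + 1) T).hom.op
          ((Φ.d (j - 1) j).app _ x))
          (get_cast E D Φ w 0 (by push_cast at h ⊢; omega) _ (by push_cast at h ⊢; omega) (q + 1) (j - 1) _)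
    | succ p =>
      rw [nd_succ, nd_succ]
      simp only [innerD]
      rw [get_swapN D E Φ τ w q m (by push_cast at h; omega) (p + 1) j h' ((q : ℤ) + j) rfl,
        get_swapN D E Φ τ w (q + 1) (n - ((q + 1 : ℕ) : ℤ)) (by omega) p j (by push_cast at h h' ⊢; omega)
          (((q + 1 : ℕ) : ℤ) + j) rfl,
        get_swapN D E Φ τ w (q + 1) (n - ((q + 1 : ℕ) : ℤ)) (by omega) (p + 1) (j - 1) (by push_cast at h h' ⊢; omega)
          (((q + 1 : ℕ) : ℤ) + (j - 1)) rfl]
      simp only [map_add, map_zsmul, smul_add, smul_smul]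
      rw [hD, compatE' D E hE, NatTrans.naturality_apply (Φ.d (j - 1) j) (τ (p + 1) (q + 1) T).hom.op,
        get_cast E D Φ w (p + 1) (show n - ((p + 1 : ℕ) : ℤ) = (q : ℤ) + j by push_cast at h h' ⊢; omega) _
          (by push_cast at h h' ⊢; omega) q j _,
        get_cast E D Φ w (p + 1) (show n - ((p + 1 : ℕ) : ℤ) = ((q + 1 : ℕ) : ℤ) + (j - 1) by push_cast at h h' ⊢; omega) _
          (by push_cast at h h' ⊢; omega) (q + 1) (j - 1) _]
      have s1 : sgn (p + 1) (q + 1) = (((q + 1 : ℕ) : ℤ).negOnePow : ℤ) * sgn p (q + 1) := by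
        simp only [sgn, Nat.cast_mul, ← Units.val_mul, ← Int.negOnePow_add]
        congr 2
        push_cast; ring
      have s2 : sgn (p + 1) (q + 1) * (((p + 1 : ℕ) : ℤ).negOnePow : ℤ) = sgn (p + 1) q := by
        simp only [sgn, Nat.cast_mul, ← Units.val_mul, ← Int.negOnePow_add]
        congr 1
        rw [Int.negOnePow_eq_iff]
        refine ⟨((p : ℤ) + 1), ?_⟩
        push_cast; ring
      have s3 : sgn (p + 1) (q + 1) * ((((p + 1 : ℕ) : ℤ).negOnePow : ℤ) * (((q + 1 : ℕ) : ℤ).negOnePow : ℤ)) =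
          (((q + 1 : ℕ) : ℤ).negOnePow : ℤ) * ((((p + 1 : ℕ) : ℤ).negOnePow : ℤ) * sgn (p + 1) (q + 1)) := by ring
      rw [s2, s3, s1]
      abel

theorem exists_swapN_eq (n : ℤ) (T : C) (z : NX D E Φ n T) : ∃ w, swapN D E Φ τ n T w = z := by
  refine ⟨fun p m h q j h' => sgn p q • (Φ.X j).map (τ p q T).inv.op (get D E Φ z q ((p : ℤ) + j) (by omega) p j rfl), ?_⟩
  funext q m h p j h'
  change get D E Φ _ q m h p j h' = _
  rw [get_swapN D E Φ τ _ q m h p j h' ((q : ℤ) + j) rfl]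
  show sgn p q • (Φ.X j).map (τ p q T).hom.op (sgn p q • (Φ.X j).map (τ p q T).inv.op _) = _
  rw [map_zsmul, smul_smul, ← ConcreteCategory.comp_apply, ← Functor.map_comp, ← op_comp, Iso.hom_inv_id]
  simp only [sgn, ← Units.val_mul, ← Int.negOnePow_add, op_id, CategoryTheory.Functor.map_id]
  rw [Int.negOnePow_even _ ⟨((p * q : ℕ) : ℤ), rfl⟩]
  simp only [Units.val_one, one_smul]
  subst h'
  rfl

theorem swapN_injective (n : ℤ) (T : C) : Function.Injective (swapN D E Φ τ n T) := by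
  rw [injective_iff_map_eq_zero]
  intro w hw
  funext p m h q j h'
  have e := congrArg (fun z => get D E Φ z q ((p : ℤ) + j) (by omega) p j rfl) hw
  simp only [get_swapN D E Φ τ w q _ _ p j _ m h'] at e
  have e' := congrArg ((Φ.X j).map (τ p q T).inv.op) e
  rw [map_zsmul, ← ConcreteCategory.comp_apply, ← Functor.map_comp, ← op_comp, Iso.inv_hom_id] at e'
  change get E D Φ w p m h q j h' = 0
  have e0 : get D E Φ (0 : NX D E Φ n T) q ((p : ℤ) + j) (by omega) p j rfl = 0 := rfl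
  rw [e0, map_zero] at e'
  simp only [op_id, CategoryTheory.Functor.map_id] at e'
  rcases Int.units_eq_one_or ((p * q : ℕ) : ℤ).negOnePow with hs | hs
  · simp only [sgn, hs, Units.val_one, one_smul] at e'
    exact e'
  · simp only [sgn, hs, Units.val_neg, Units.val_one, neg_smul, one_smul, neg_eq_zero] at e'
    exact e'

include hE hD in
/-- nested totals may be interchanged -/
theorem exactAtObj_swap (T : C) (h : ExactAtObj (totCx D (totCx E Φ)) T) : ExactAtObj (totCx E (totCx D Φ)) T := by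
  refine (exactAtObj_totCx_iff E (totCx D Φ) T).2 fun n z hz => ?_
  obtain ⟨w, rfl⟩ := exists_swapN_eq D E Φ (τ := τ) (n + 1) T z
  rw [← swapN_totD D E Φ hD hE] at hz
  have hw : totD D (totCx E Φ) (n + 1) T w = 0 := swapN_injective D E Φ (τ := τ) _ T (by rw [hz, map_zero])
  obtain ⟨y, hy⟩ := (exactAtObj_totCx_iff D (totCx E Φ) T).1 h n w hw
  exact ⟨swapN D E Φ τ n T y, by rw [← swapN_totD D E Φ hD hE, hy]⟩

end Groth.L10.EtDescent
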