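import Mathlib.Algebra.Category.Grp.Preadditive
import Mathlib.CategoryTheory.Preadditive.FunctorCategory
import Mathlib.Algebra.Homology.HomologicalComplex
import Mathlib.Algebra.Ring.NegOnePow
import Mathlib.CategoryTheory.Sites.Grothendieck
import Mathlib.Tactic.Abel
import Mathlib.Tactic.Ring
import Mathlib.Algebra.Category.Grp.Zero
import Mathlib.CategoryTheory.Limits.Shapes.FunctorToTypes

/-! Concrete total complexes of Čech type double complexes of presheaves. -/

universe w v u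

open CategoryTheory CategoryTheory.Limits Opposite

set_option autoImplicit false

namespace Groth.L10.EtDescent

/-- families indexed by a proposition form a group -/
instance propPi {P : Prop} {A : P → Type w} [∀ h, AddCommGroup (A h)] : AddCommGroup (∀ h, A h) where
  add f g := fun h => f h + g h
  zero := fun _ => 0
  neg f := fun h => - f h
  sub f g := fun h => f h - g h
  nsmul n f := fun h => n • f h
  zsmul n f := fun h => n • f h
  add_assoc f g k := funext fun h => add_assoc (f h) (g h) (k h)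
  zero_add f := funext fun h => zero_add (f h)
  add_zero f := funext fun h => add_zero (f h)
  add_comm f g := funext fun h => add_comm (f h) (g h)
  neg_add_cancel f := funext fun h => neg_add_cancel (f h)
  sub_eq_add_neg f g := funext fun h => sub_eq_add_neg (f h) (g h)
  nsmul_zero f := funext fun h => AddMonoid.nsmul_zero (f h)
  nsmul_succ n f := funext fun h => AddMonoid.nsmul_succ n (f h)
  zsmul_zero' f := funext fun h => SubNegMonoid.zsmul_zero' (f h)
  zsmul_succ' n f := funext fun h => SubNegMonoid.zsmul_succ' n (f h)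
  zsmul_neg' n f := funext fun h => SubNegMonoid.zsmul_neg' n (f h)

@[simp] theorem propPi_add {P : Prop} {A : P → Type w} [∀ h, AddCommGroup (A h)] (f g : ∀ h, A h) (h : P) :
    (f + g) h = f h + g h := rfl

@[simp] theorem propPi_zero {P : Prop} {A : P → Type w} [∀ h, AddCommGroup (A h)] (h : P) :
    (0 : ∀ h, A h) h = 0 := rfl

@[simp] theorem propPi_sub {P : Prop} {A : P → Type w} [∀ h, AddCommGroup (A h)] (f g : ∀ h, A h) (h : P) :
    (f - g) h = f h - g h := rfl

@[simp] theorem propPi_zsmul {P : Prop} {A : P → Type w} [∀ h, AddCommGroup (A h)] (n : ℤ) (f : ∀ h, A h) (h : P) :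
    (n • f) h = n • f h := rfl

variable {C : Type u} [Category.{v} C]

/-- the data of an alternating coface complex, for presheaves of abelian groups -/
structure Datum (C : Type u) [Category.{v} C] where
  Q : ℕ → C ⥤ C
  δ : ∀ (F : Cᵒᵖ ⥤ AddCommGrpCat.{w}) (p : ℕ) (T : C),
    F.obj (op ((Q p).obj T)) →+ F.obj (op ((Q (p + 1)).obj T))
  δ_natF : ∀ {F G : Cᵒᵖ ⥤ AddCommGrpCat.{w}} (φ : F ⟶ G) (p : ℕ) (T : C) (x : F.obj (op ((Q p).obj T))),
    φ.app _ (δ F p T x) = δ G p T (φ.app _ x)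
  δ_natT : ∀ (F : Cᵒᵖ ⥤ AddCommGrpCat.{w}) (p : ℕ) {T T' : C} (a : T' ⟶ T) (x : F.obj (op ((Q p).obj T))),
    F.map ((Q (p + 1)).map a).op (δ F p T x) = δ F p T' (F.map ((Q p).map a).op x)
  δ_δ : ∀ (F : Cᵒᵖ ⥤ AddCommGrpCat.{w}) (p : ℕ) (T : C) (x : F.obj (op ((Q p).obj T))),
    δ F (p + 1) T (δ F p T x) = 0

variable (D : Datum.{w} C) (Φ : CochainComplex (Cᵒᵖ ⥤ AddCommGrpCat.{w}) ℤ)

/-- sections of the total complex -/
abbrev TotX (n : ℤ) (T : C) : Type w :=
  ∀ (p : ℕ) (j : ℤ), (p : ℤ) + j = n → (Φ.X j).obj (op ((D.Q p).obj T))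

/-- the horizontal part of the differential -/
def hor {n : ℤ} {T : C} (z : TotX D Φ n T) :
    ∀ (p : ℕ) (j : ℤ), (p : ℤ) + j = n + 1 → (Φ.X j).obj (op ((D.Q p).obj T))
  | 0, _, _ => 0
  | p + 1, j, h => D.δ (Φ.X j) p T (z p j (by push_cast at h; omega))

/-- the differential on sections -/
def totD (n : ℤ) (T : C) : TotX D Φ n T →+ TotX D Φ (n + 1) T where
  toFun z := fun p j h => hor D Φ z p j h +
    ((p : ℤ).negOnePow : ℤ) • ((Φ.d (j - 1) j).app (op ((D.Q p).obj T))) (z p (j - 1) (by omega))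
  map_zero' := by
    funext p j h
    cases p <;> simp [hor]
  map_add' z z' := by
    funext p j h
    cases p <;> simp [hor, smul_add] <;> abel

theorem totD_zero_apply {n : ℤ} {T : C} (z : TotX D Φ n T) (j : ℤ) (h : ((0 : ℕ) : ℤ) + j = n + 1) :
    totD D Φ n T z 0 j h = ((Φ.d (j - 1) j).app (op ((D.Q 0).obj T))) (z 0 (j - 1) (by omega)) := by
  simp [totD, hor]

theorem totD_succ_apply {n : ℤ} {T : C} (z : TotX D Φ n T) (p : ℕ) (j : ℤ) (h : ((p + 1 : ℕ) : ℤ) + j = n + 1) :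
    totD D Φ n T z (p + 1) j h = D.δ (Φ.X j) p T (z p j (by push_cast at h; omega)) +
      (((p + 1 : ℕ) : ℤ).negOnePow : ℤ) •
        ((Φ.d (j - 1) j).app (op ((D.Q (p + 1)).obj T))) (z (p + 1) (j - 1) (by push_cast at h ⊢; omega)) := rfl

theorem dΦ_dΦ (i j k : ℤ) (T : Cᵒᵖ) (x : (Φ.X i).obj T) :
    ((Φ.d j k).app T) (((Φ.d i j).app T) x) = 0 := by
  rw [← ConcreteCategory.comp_apply, ← NatTrans.comp_app, HomologicalComplex.d_comp_d]
  rfl

theorem totD_totD (n : ℤ) (T : C) (z : TotX D Φ n T) : totD D Φ (n + 1) T (totD D Φ n T z) = 0 := by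
  funext p j h
  cases p with
  | zero =>
    rw [totD_zero_apply, totD_zero_apply, dΦ_dΦ]
    rfl
  | succ p =>
    rw [totD_succ_apply]
    cases p with
    | zero =>
      rw [totD_zero_apply, totD_succ_apply, map_add, dΦ_dΦ_smul, D.δ_natF]
      simp
    | succ p =>
      rw [totD_succ_apply, totD_succ_apply, map_add, map_add, map_zsmul, map_zsmul, dΦ_dΦ, D.δ_δ, D.δ_natF]
      have e : (((p + 1 + 1 : ℕ) : ℤ).negOnePow : ℤ) = -(((p + 1 : ℕ) : ℤ).negOnePow : ℤ) := by
        rw [show ((p + 1 + 1 : ℕ) : ℤ) = ((p + 1 : ℕ) : ℤ) + 1 by push_cast; ring, Int.negOnePow_succ]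
        simp
      simp only [smul_zero, add_zero, zero_add, e, neg_smul, add_neg_cancel]
      rfl
  where
  dΦ_dΦ_smul {i j k : ℤ} {T : Cᵒᵖ} {c : ℤ} {x : (Φ.X i).obj T} :
      ((Φ.d j k).app T) (c • ((Φ.d i j).app T) x) = 0 := by rw [map_zsmul, dΦ_dΦ, smul_zero]

/-- restriction -/
def totMap (n : ℤ) {T T' : C} (a : T' ⟶ T) : TotX D Φ n T →+ TotX D Φ n T' where
  toFun z := fun p j h => (Φ.X j).map ((D.Q p).map a).op (z p j h)
  map_zero' := by funext p j h; simp
  map_add' z z' := by funext p j h; simp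

theorem totD_totMap (n : ℤ) {T T' : C} (a : T' ⟶ T) (z : TotX D Φ n T) :
    totD D Φ n T' (totMap D Φ n a z) = totMap D Φ (n + 1) a (totD D Φ n T z) := by
  funext p j h
  change _ = (Φ.X j).map ((D.Q p).map a).op (totD D Φ n T z p j h)
  cases p with
  | zero =>
    rw [totD_zero_apply, totD_zero_apply]
    exact ConcreteCategory.congr_hom ((Φ.d (j - 1) j).naturality ((D.Q 0).map a).op) _
  | succ p =>
    rw [totD_succ_apply, totD_succ_apply, map_add, map_zsmul, D.δ_natT]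
    congr 2
    exact ConcreteCategory.congr_hom ((Φ.d (j - 1) j).naturality ((D.Q (p + 1)).map a).op) _

/-- the total complex as presheaves -/
def totPre (n : ℤ) : Cᵒᵖ ⥤ AddCommGrpCat.{w} where
  obj T := AddCommGrpCat.of (TotX D Φ n T.unop)
  map a := AddCommGrpCat.ofHom (totMap D Φ n a.unop)
  map_id T := by
    ext z
    simp [totMap]
  map_comp a b := by
    ext z
    simp [totMap]

/-- the total complex -/
def totCx : CochainComplex (Cᵒᵖ ⥤ AddCommGrpCat.{w}) ℤ :=
  CochainComplex.of (totPre D Φ)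
    (fun n => { app := fun T => AddCommGrpCat.ofHom (totD D Φ n T.unop)
                naturality := fun T T' a => by
                  ext z
                  exact totD_totMap D Φ n a.unop z })
    (fun n => by
      ext T z
      exact totD_totD D Φ n T.unop z)

theorem totCx_d_app (n : ℤ) (T : C) (z : TotX D Φ n T) :
    ((totCx D Φ).d n (n + 1)).app (op T) z = totD D Φ n T z := by
  simp [totCx]
  rfl

/-- a cocycle of a complex of presheaves is locally a boundary -/
def LExact (J : GrothendieckTopology C) (L : CochainComplex (Cᵒᵖ ⥤ AddCommGrpCat.{w}) ℤ) (n : ℤ) : Prop :=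
  ∀ (T : C) (z : (L.X n).obj (op T)), (L.d n (n + 1)).app (op T) z = 0 →
    ∃ S ∈ J T, ∀ ⦃T' : C⦄ (g : T' ⟶ T), S g → ∃ y : (L.X (n - 1)).obj (op T'),
      (L.d (n - 1) n).app (op T') y = (L.X n).map g.op z

/-- sectionwise exactness at an object -/
def ExactAtObj (L : CochainComplex (Cᵒᵖ ⥤ AddCommGrpCat.{w}) ℤ) (T : C) : Prop :=
  ∀ (n : ℤ) (z : (L.X n).obj (op T)), (L.d n (n + 1)).app (op T) z = 0 →
    ∃ y : (L.X (n - 1)).obj (op T), (L.d (n - 1) n).app (op T) y = z

theorem exactAtObj_totCx_iff (T : C) :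
    ExactAtObj (totCx D Φ) T ↔
      ∀ (n : ℤ) (z : TotX D Φ (n + 1) T), totD D Φ (n + 1) T z = 0 → ∃ y, totD D Φ n T y = z := by
  constructor
  · intro h n z hz
    obtain ⟨y, hy⟩ := h (n + 1) z (Eq.trans (totCx_d_app D Φ _ T z) hz)
    have key : ∀ (m : ℤ), m = n → ∀ y : TotX D Φ m T, ∀ e : ((totCx D Φ).d m (n + 1)).app (op T) y = z,
        ∃ y, totD D Φ n T y = z := fun m hm => by
      subst hm
      exact fun y e => ⟨y, (totCx_d_app D Φ _ T y).symm.trans e⟩
    exact key _ (by omega) y hy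
  · intro h n
    obtain ⟨m, rfl⟩ : ∃ m, n = m + 1 := ⟨n - 1, by omega⟩
    intro z hz
    obtain ⟨y, hy⟩ := h m z ((totCx_d_app D Φ _ T z).symm.trans hz)
    have key : ∀ (m' : ℤ), m' = m → ∃ y : TotX D Φ m' T, ((totCx D Φ).d m' (m + 1)).app (op T) y = z := fun m' hm => by
      subst hm
      exact ⟨y, (totCx_d_app D Φ _ T y).trans hy⟩
    exact key _ (by omega)

theorem lexact_totCx (J : GrothendieckTopology C)
    (h : ∀ (n : ℤ) (T : C) (z : TotX D Φ (n + 1) T), totD D Φ (n + 1) T z = 0 →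
      ∃ S ∈ J T, ∀ ⦃T' : C⦄ (g : T' ⟶ T), S g → ∃ y : TotX D Φ n T', totD D Φ n T' y = totMap D Φ (n + 1) g z)
    (n : ℤ) : LExact J (totCx D Φ) n := by
  obtain ⟨m, rfl⟩ : ∃ m, n = m + 1 := ⟨n - 1, by omega⟩
  intro T z hz
  obtain ⟨S, hS, hS'⟩ := h m T z ((totCx_d_app D Φ _ T z).symm.trans hz)
  refine ⟨S, hS, fun T' g hg => ?_⟩
  obtain ⟨y, hy⟩ := hS' g hg
  have key : ∀ (m' : ℤ), m' = m → ∃ y : TotX D Φ m' T',
      ((totCx D Φ).d m' (m + 1)).app (op T') y = totMap D Φ (m + 1) g z := fun m' hm => by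
    subst hm
    exact ⟨y, (totCx_d_app D Φ _ T' y).trans hy⟩
  exact key _ (by omega)

section Single

variable {n : ℤ} {T : C} (m : ℕ) (x : ∀ j : ℤ, (m : ℤ) + j = n → (Φ.X j).obj (op ((D.Q m).obj T)))

/-- a family concentrated in one column -/
noncomputable def oneCol : TotX D Φ n T := fun p j h =>
  if e : p = m then e ▸ x j (e ▸ h) else 0

theorem oneCol_self (j : ℤ) (h : (m : ℤ) + j = n) : oneCol D Φ m x m j h = x j h := dif_pos rfl

theorem oneCol_ne (p : ℕ) (hp : p ≠ m) (j : ℤ) (h : (p : ℤ) + j = n) : oneCol D Φ m x p j h = 0 := dif_neg hp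

end Single

/-- columns locally exact from degree `c` on allow to kill the components of degree at least `c` -/
theorem lexact_tot_ge (J : GrothendieckTopology C) (c : ℤ)
    (hcol : ∀ (p : ℕ) (j : ℤ), c ≤ j → ∀ (T : C) (z : (Φ.X j).obj (op ((D.Q p).obj T))),
      (Φ.d j (j + 1)).app _ z = 0 → ∃ S ∈ J T, ∀ ⦃T' : C⦄ (g : T' ⟶ T), S g →
        ∃ y : (Φ.X (j - 1)).obj (op ((D.Q p).obj T')), (Φ.d (j - 1) j).app _ y = (Φ.X j).map ((D.Q p).map g).op z)
    (n : ℤ) (T : C) (z : TotX D Φ (n + 1) T) (hz : totD D Φ (n + 1) T z = 0) :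
    ∃ S ∈ J T, ∀ ⦃T' : C⦄ (g : T' ⟶ T), S g → ∃ y : TotX D Φ n T',
      ∀ (p : ℕ) (j : ℤ) (h : (p : ℤ) + j = n + 1), c ≤ j → (totMap D Φ (n + 1) g z - totD D Φ n T' y) p j h = 0 := by
  have key : ∀ m : ℕ, m ≤ (n + 2 - c).toNat → ∃ S ∈ J T, ∀ ⦃T' : C⦄ (g : T' ⟶ T), S g → ∃ y : TotX D Φ n T',
      ∀ (p : ℕ) (j : ℤ) (h : (p : ℤ) + j = n + 1), p < m →
        (totMap D Φ (n + 1) g z - totD D Φ n T' y) p j h = 0 := by
    intro m hm
    induction m with
    | zero => exact ⟨⊤, J.top_mem T, fun T' g _ => ⟨0, fun p j h hp => absurd hp (by omega)⟩⟩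
    | succ m ih =>
      obtain ⟨S, hS, hS'⟩ := ih (by omega)
      refine ⟨Sieve.mk (fun T' g => ∃ y : TotX D Φ n T', ∀ (p : ℕ) (j : ℤ) (h : (p : ℤ) + j = n + 1), p < m + 1 →
          (totMap D Φ (n + 1) g z - totD D Φ n T' y) p j h = 0) ?_, J.transitive hS _ ?_, fun T' g hg => hg⟩
      · rintro T' T'' g ⟨y, hy⟩ a
        refine ⟨totMap D Φ n a y, fun p j h hp => ?_⟩
        have e := congrArg ((Φ.X j).map ((D.Q p).map a).op) (hy p j h hp)
        rw [map_zero] at e
        rw [totD_totMap]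
        refine Eq.trans ?_ e
        simp [totMap]
      intro T' g hg
      obtain ⟨y, hy⟩ := hS' g hg
      let r := totMap D Φ (n + 1) g z - totD D Φ n T' y
      have hr : totD D Φ (n + 1) T' r = 0 := by
        simp only [r, map_sub]
        rw [totD_totMap, hz, map_zero, totD_totD, sub_zero]
      let j0 : ℤ := n + 1 - m
      have hcyc : (Φ.d j0 (j0 + 1)).app _ (r m j0 (by omega)) = 0 := by
        have e := congrFun (congrFun (congrFun hr m) (j0 + 1)) (by omega)
        have e' : ((m : ℤ).negOnePow : ℤ) • ((Φ.d (j0 + 1 - 1) (j0 + 1)).app (op ((D.Q m).obj T')))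
            (r m (j0 + 1 - 1) (by omega)) = 0 := by
          cases m with
          | zero => rw [totD_zero_apply] at e; simpa using e
          | succ k =>
            rw [totD_succ_apply] at e
            rw [show r k (j0 + 1) (by push_cast [j0]; omega) = 0 from hy k (j0 + 1) _ (by omega), map_zero, zero_add] at e
            exact e
        have cast_ : ∀ i, i = j0 → ∀ h' : (m : ℤ) + i = n + 1, (Φ.d i (j0 + 1)).app _ (r m i h') =
            (Φ.d j0 (j0 + 1)).app _ (r m j0 (by omega)) := by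
          rintro i rfl h'; rfl
        rw [cast_ _ (by omega)] at e'
        rcases Int.units_eq_one_or (m : ℤ).negOnePow with hs | hs <;> simpa [hs] using e'
      obtain ⟨R, hR, hR'⟩ := hcol m j0 (by omega) T' (r m j0 (by omega)) hcyc
      refine J.superset_covering (fun T'' a ha => ?_) hR
      obtain ⟨w, hw⟩ := hR' a ha
      let x : ∀ j : ℤ, (m : ℤ) + j = n → (Φ.X j).obj (op ((D.Q m).obj T'')) := fun j h =>
        ((m : ℤ).negOnePow : ℤ) • ((eqToHom (by rw [show j = j0 - 1 by omega]) :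
          (Φ.X (j0 - 1)).obj (op ((D.Q m).obj T'')) ⟶ (Φ.X j).obj (op ((D.Q m).obj T''))) w)
      refine ⟨totMap D Φ n a y + oneCol D Φ m x, fun p j h hp => ?_⟩
      have e0 : (totMap D Φ (n + 1) (a ≫ g) z - totD D Φ n T'' (totMap D Φ n a y)) p j h =
          (Φ.X j).map ((D.Q p).map a).op (r p j h) := by
        rw [totD_totMap]
        simp [r, totMap]
      have e1 : (totMap D Φ (n + 1) (a ≫ g) z - totD D Φ n T'' (totMap D Φ n a y + oneCol D Φ m x)) p j h =
          (Φ.X j).map ((D.Q p).map a).op (r p j h) - totD D Φ n T'' (oneCol D Φ m x) p j h := by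
        rw [← e0, map_add]
        simp only [Pi.sub_apply, Pi.add_apply, propPi_sub, propPi_add]
        abel
      change (totMap D Φ (n + 1) (a ≫ g) z - totD D Φ n T'' (totMap D Φ n a y + oneCol D Φ m x)) p j h = 0
      rw [e1]
      rcases Nat.lt_succ_iff_lt_or_eq.1 hp with hlt | rfl
      · rw [show r p j h = 0 from hy p j h hlt, map_zero, zero_sub, neg_eq_zero]
        cases p with
        | zero => rw [totD_zero_apply, oneCol_ne D Φ m x 0 (by omega), map_zero]
        | succ k =>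
          rw [totD_succ_apply, oneCol_ne D Φ m x k (by omega), oneCol_ne D Φ m x (k + 1) (by omega)]
          simp
      · have hj : j = j0 := by omega
        subst hj
        rw [← hw, sub_eq_zero]
        have e2 : totD D Φ n T'' (oneCol D Φ p x) p j0 h = ((p : ℤ).negOnePow : ℤ) •
            ((Φ.d (j0 - 1) j0).app (op ((D.Q p).obj T''))) (x (j0 - 1) (by omega)) := by
          cases p with
          | zero => rw [totD_zero_apply, oneCol_self]; simp
          | succ k => rw [totD_succ_apply, oneCol_ne D Φ _ x k (by omega), oneCol_self, map_zero, zero_add]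
        rw [e2]
        simp only [x, map_zsmul, smul_smul]
        rcases Int.units_eq_one_or (p : ℤ).negOnePow with hs | hs <;> simp [hs]
  obtain ⟨S, hS, hS'⟩ := key (n + 2 - c).toNat le_rfl
  refine ⟨S, hS, fun T' g hg => ?_⟩
  obtain ⟨y, hy⟩ := hS' g hg
  exact ⟨y, fun p j h hj => hy p j h (by omega)⟩

/-- locally exact columns give a locally exact total complex -/
theorem lexact_tot (J : GrothendieckTopology C) (b : ℤ) (hb : ∀ j < b, IsZero (Φ.X j))
    (hcol : ∀ (p : ℕ) (j : ℤ) (T : C) (z : (Φ.X j).obj (op ((D.Q p).obj T))),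
      (Φ.d j (j + 1)).app _ z = 0 → ∃ S ∈ J T, ∀ ⦃T' : C⦄ (g : T' ⟶ T), S g →
        ∃ y : (Φ.X (j - 1)).obj (op ((D.Q p).obj T')), (Φ.d (j - 1) j).app _ y = (Φ.X j).map ((D.Q p).map g).op z)
    (n : ℤ) (T : C) (z : TotX D Φ (n + 1) T) (hz : totD D Φ (n + 1) T z = 0) :
    ∃ S ∈ J T, ∀ ⦃T' : C⦄ (g : T' ⟶ T), S g → ∃ y : TotX D Φ n T', totD D Φ n T' y = totMap D Φ (n + 1) g z := by
  obtain ⟨S, hS, hS'⟩ := lexact_tot_ge D Φ J b (fun p j _ => hcol p j) n T z hz
  refine ⟨S, hS, fun T' g hg => ?_⟩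
  obtain ⟨y, hy⟩ := hS' g hg
  refine ⟨y, Eq.symm (sub_eq_zero.1 ?_)⟩
  funext p j h
  by_cases hj : b ≤ j
  · exact hy p j h hj
  · haveI := AddCommGrpCat.subsingleton_of_isZero ((hb j (by omega)).obj (op ((D.Q p).obj T')))
    exact Subsingleton.elim _ _

/-- a contraction of the rows gives exactness -/
theorem exactAtObj_of_contraction (T : C)
    (s : ∀ (F : Cᵒᵖ ⥤ AddCommGrpCat.{w}) (p : ℕ), F.obj (op ((D.Q (p + 1)).obj T)) →+ F.obj (op ((D.Q p).obj T)))
    (hnat : ∀ {F G : Cᵒᵖ ⥤ AddCommGrpCat.{w}} (φ : F ⟶ G) (p : ℕ) (x : F.obj (op ((D.Q (p + 1)).obj T))),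
      φ.app _ (s F p x) = s G p (φ.app _ x))
    (h0 : ∀ (F : Cᵒᵖ ⥤ AddCommGrpCat.{w}) (x : F.obj (op ((D.Q 0).obj T))), s F 0 (D.δ F 0 T x) = x)
    (h1 : ∀ (F : Cᵒᵖ ⥤ AddCommGrpCat.{w}) (p : ℕ) (x : F.obj (op ((D.Q (p + 1)).obj T))),
      D.δ F p T (s F p x) + s F (p + 1) (D.δ F (p + 1) T x) = x) :
    ExactAtObj (totCx D Φ) T := by
  refine (exactAtObj_totCx_iff D Φ T).2 fun n z hz => ⟨fun p j h => s (Φ.X j) p (z (p + 1) j (by push_cast; omega)), ?_⟩
  funext p j h
  have e := congrFun (congrFun (congrFun hz (p + 1)) j) (by push_cast; omega)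
  rw [totD_succ_apply, Pi.zero_apply, Pi.zero_apply, propPi_zero, add_eq_zero_iff_eq_neg] at e
  cases p with
  | zero =>
    have e' := congrArg (s (Φ.X j) 0) e
    rw [h0, map_neg, map_zsmul, ← hnat] at e'
    rw [totD_zero_apply, e']
    simp
  | succ k =>
    have e' := congrArg (s (Φ.X j) (k + 1)) e
    rw [map_neg, map_zsmul, ← hnat] at e'
    have e'' := h1 (Φ.X j) k (z (k + 1) j h)
    rw [e'] at e''
    rw [totD_succ_apply]
    refine Eq.trans ?_ e''
    have hsg : (((k + 1 + 1 : ℕ) : ℤ).negOnePow : ℤ) = -(((k + 1 : ℕ) : ℤ).negOnePow : ℤ) := by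
      rw [show ((k + 1 + 1 : ℕ) : ℤ) = ((k + 1 : ℕ) : ℤ) + 1 by push_cast; ring, Int.negOnePow_succ]
      simp
    simp only [hsg, neg_smul, neg_neg]

end Groth.L10.EtDescent
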