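import Groth.Agent.L10.EtDescent.RingLemma
import Groth.Agent.L10.EtDescent.Piece
import Groth.Agent.L19.MonoValuative
import Groth.Agent.L20.Weight.Isolate
import Mathlib.AlgebraicGeometry.Morphisms.UniversallyOpen
import Mathlib.AlgebraicGeometry.Noetherian
import Mathlib.AlgebraicGeometry.Morphisms.QuasiFinite
import Mathlib.Topology.Sober
import Mathlib.LinearAlgebra.TensorProduct.RightExactness

/-! Finite surjective refinements, étale locally on the base, of universally open morphisms. -/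

universe u

open CategoryTheory CategoryTheory.Limits AlgebraicGeometry TopologicalSpace Topology TensorProduct IsLocalRing

set_option autoImplicit false
set_option linter.style.haveILetI false
set_option backward.isDefEq.respectTransparency false
set_option backward.isDefEq.respectTransparency.types false

namespace Groth.L10.EtDescent

/-- a closed set containing all generizations of a point is a neighbourhood -/
theorem mem_nhds_of_generizations {α : Type*} [TopologicalSpace α] [NoetherianSpace α] [QuasiSober α]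
    {C : Set α} (hC : IsClosed C) {u : α} (h : ∀ η, η ⤳ u → η ∈ C) : C ∈ 𝓝 u := by
  classical
  let bad : Set (Set α) := {c ∈ irreducibleComponents α | u ∉ c}
  have hfin : bad.Finite := NoetherianSpace.finite_irreducibleComponents.subset fun c hc => hc.1
  have hcl : IsClosed (⋃ c ∈ bad, c) := hfin.isClosed_biUnion fun c hc => isClosed_of_mem_irreducibleComponents c hc.1
  refine Filter.mem_of_superset (hcl.isOpen_compl.mem_nhds ?_) fun x hx => ?_
  · intro hu
    obtain ⟨c, hc, huc⟩ := Set.mem_iUnion₂.1 hu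
    exact hc.2 huc
  · obtain ⟨c, hc, hxc⟩ := exists_mem_irreducibleComponents_subset_of_isIrreducible {x} isIrreducible_singleton
    have hxc' : x ∈ c := hxc rfl
    have huc : u ∈ c := by
      by_contra huc
      exact hx (Set.mem_iUnion₂.2 ⟨c, ⟨hc, huc⟩, hxc'⟩)
    obtain ⟨η, hη⟩ := QuasiSober.sober hc.1 (isClosed_of_mem_irreducibleComponents c hc)
    exact (hη.specializes hxc').mem_closed hC (h η (hη.specializes huc))

/-- scheme version -/
theorem exists_open_of_generizations {V : Scheme.{u}} [IsLocallyNoetherian V] {C : Set V} (hC : IsClosed C) {v : V}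
    (h : ∀ η, η ⤳ v → η ∈ C) : ∃ O : V.Opens, v ∈ O ∧ (O : Set V) ⊆ C := by
  obtain ⟨_, ⟨O, hO, rfl⟩, hvO, -⟩ := V.isBasis_affineOpens.exists_subset_of_mem_open (Set.mem_univ v) isOpen_univ
  replace hvO : v ∈ (O : V.Opens) := hvO
  let O : V.Opens := O
  haveI : IsAffine O.toScheme := hO
  haveI : IsNoetherian O.toScheme := {}
  have hnhds : O.ι ⁻¹' C ∈ 𝓝 (⟨v, hvO⟩ : O.toScheme) :=
    mem_nhds_of_generizations (hC.preimage O.ι.continuous) fun η hη => h _ (hη.map O.ι.continuous)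
  obtain ⟨N, hN, hNo, hvN⟩ := mem_nhds_iff.1 hnhds
  exact ⟨O.ι ''ᵁ ⟨N, hNo⟩, ⟨⟨v, hvO⟩, hvN, rfl⟩, fun x ⟨w, hw, hwx⟩ => hwx ▸ hN hw⟩

theorem universallyOpen_of_comp_mono {P Q T : Scheme.{u}} (g : P ⟶ Q) (j : Q ⟶ T) [Mono j]
    [hgj : UniversallyOpen (g ≫ j)] : UniversallyOpen g := by
  refine MorphismProperty.of_isPullback (P := @UniversallyOpen) (f' := 𝟙 P) (f := j) (g' := g) (g := g ≫ j) ?_ hgj
  exact IsPullback.of_isLimit (PullbackCone.IsLimit.mk (f := j) (g := g ≫ j) (fst := g) (snd := 𝟙 P)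
    (by simp) (fun s => s.snd) (fun s => (cancel_mono j).1 (by simpa using s.condition.symm))
    (fun s => by simp) (fun s m _ h => by simpa using h)) |>.flip

section

variable {A B R : Type u} [CommRing A] [CommRing B] [Algebra A B] [CommRing R] [Algebra A R]

theorem isOpenMap_baseChange [UniversallyOpen (Spec.map (CommRingCat.ofHom (algebraMap A B)))] :
    IsOpenMap (PrimeSpectrum.comap (algebraMap R (R ⊗[A] B))) := by
  have : UniversallyOpen (Spec.map (CommRingCat.ofHom (algebraMap R (R ⊗[A] B)))) := by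
    rw [← pullbackSpecIso_inv_fst' A R B]
    infer_instance
  exact (Spec.map (CommRingCat.ofHom (algebraMap R (R ⊗[A] B)))).isOpenMap

end

theorem exists_finite_surjective_refinement {X Y : Scheme.{u}} [IsLocallyNoetherian Y] (f : X ⟶ Y)
    [UniversallyOpen f] [LocallyOfFiniteType f] [Surjective f] (y : Y) :
    ∃ (S' : Scheme.{u}) (e : S' ⟶ Y) (_ : Etale e) (_ : y ∈ Set.range e.base)
      (W : Scheme.{u}) (h : W ⟶ S') (_ : IsFinite h) (_ : Surjective h) (k : W ⟶ X), k ≫ f = h ≫ e := by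
  classical
  obtain ⟨x, rfl⟩ := f.surjective y
  obtain ⟨_, ⟨Y0, hY0, rfl⟩, hxY0, -⟩ :=
    Y.isBasis_affineOpens.exists_subset_of_mem_open (Set.mem_univ (f x)) isOpen_univ
  replace hY0 : IsAffineOpen Y0 := hY0
  obtain ⟨_, ⟨U0, hU0, rfl⟩, hxU0, hU0Y⟩ :=
    X.isBasis_affineOpens.exists_subset_of_mem_open (show x ∈ (f ⁻¹ᵁ Y0 : Set X) from hxY0) (f ⁻¹ᵁ Y0).2
  replace hU0 : IsAffineOpen U0 := hU0
  let φ := f.appLE Y0 U0 hU0Y
  have hft : φ.hom.FiniteType :=
    HasRingHomProperty.appLE (P := @LocallyOfFiniteType) f inferInstance ⟨Y0, hY0⟩ ⟨U0, hU0⟩ hU0Y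
  have hcomp : Spec.map φ ≫ hY0.fromSpec = hU0.fromSpec ≫ f := hY0.SpecMap_appLE_fromSpec f hU0 hU0Y
  algebraize [φ.hom]
  haveI : Algebra.FiniteType Γ(Y, Y0) Γ(X, U0) := hft
  haveI : IsNoetherianRing Γ(Y, Y0) := IsLocallyNoetherian.component_noetherian ⟨Y0, hY0⟩
  haveI : UniversallyOpen (Spec.map (CommRingCat.ofHom (algebraMap Γ(Y, Y0) Γ(X, U0)))) := by
    show UniversallyOpen (Spec.map φ)
    haveI : UniversallyOpen (Spec.map φ ≫ hY0.fromSpec) := by rw [hcomp]; infer_instance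
    exact universallyOpen_of_comp_mono (Spec.map φ) hY0.fromSpec
  obtain ⟨p, hp⟩ := hY0.range_fromSpec.ge hxY0
  obtain ⟨x', hx'⟩ := hU0.range_fromSpec.ge hxU0
  have hx'p : x'.asIdeal.comap (algebraMap Γ(Y, Y0) Γ(X, U0)) = p.asIdeal := by
    refine congrArg PrimeSpectrum.asIdeal (hY0.fromSpec.isOpenEmbedding.injective (a₁ := Spec.map φ x') ?_)
    rw [← Scheme.Hom.comp_apply, hcomp, Scheme.Hom.comp_apply, hx', hp]
  haveI : Nonempty (PrimeSpectrum (p.asIdeal.Fiber Γ(X, U0))) :=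
    ⟨PrimeSpectrum.primesOverOrderIsoFiber Γ(Y, Y0) Γ(X, U0) p.asIdeal ⟨x'.asIdeal, x'.isPrime, ⟨hx'p.symm⟩⟩⟩
  haveI : Nontrivial (p.asIdeal.Fiber Γ(X, U0)) := PrimeSpectrum.nonempty_iff_nontrivial.1 inferInstance
  obtain ⟨m₀, hm₀⟩ := Ideal.exists_maximal (p.asIdeal.Fiber Γ(X, U0))
  obtain ⟨s, l, hlen, hlast, hsm, hqf⟩ := exists_params p.asIdeal m₀
  let I : Ideal Γ(X, U0) := Ideal.span (s : Set Γ(X, U0))
  let mB := m₀.comap (Algebra.TensorProduct.includeRight (R := Γ(Y, Y0)) (A := p.asIdeal.ResidueField)).toRingHom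
  have hIm : I ≤ mB := Ideal.span_le.2 fun b hb => hsm b hb
  haveI : (mB.map (Ideal.Quotient.mk I)).IsPrime := Ideal.isPrime_map_quotientMk_of_isPrime hIm
  let z : PrimeSpectrum (Γ(X, U0) ⧸ I) := ⟨mB.map (Ideal.Quotient.mk I), inferInstance⟩
  have hzc : z.asIdeal.comap (Ideal.Quotient.mk I) = mB := by
    simp only [z, Ideal.comap_map_of_surjective _ Ideal.Quotient.mk_surjective, ← RingHom.ker_eq_comap_bot,
      Ideal.mk_ker, sup_eq_left]
    exact hIm
  let σ : CommRingCat.of Γ(Y, Y0) ⟶ CommRingCat.of (Γ(X, U0) ⧸ I) :=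
    CommRingCat.ofHom (algebraMap Γ(Y, Y0) (Γ(X, U0) ⧸ I))
  let g : Spec (CommRingCat.of (Γ(X, U0) ⧸ I)) ⟶ Y := Spec.map σ ≫ hY0.fromSpec
  haveI : LocallyOfFiniteType (Spec.map σ) :=
    (HasRingHomProperty.Spec_iff (P := @LocallyOfFiniteType)).2 (RingHom.finiteType_algebraMap.2 inferInstance)
  let k0 : Spec (CommRingCat.of (Γ(X, U0) ⧸ I)) ⟶ X :=
    Spec.map (CommRingCat.ofHom (Ideal.Quotient.mk I)) ≫ hU0.fromSpec
  have hk0 : k0 ≫ f = g := by
    simp only [k0, g, Category.assoc, ← hcomp]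
    rw [← Spec.map_comp_assoc]
    rfl
  have hσz : Spec.map σ z = p := by
    refine PrimeSpectrum.ext ?_
    show z.asIdeal.comap ((Ideal.Quotient.mk I).comp (algebraMap Γ(Y, Y0) Γ(X, U0))) = p.asIdeal
    rw [← Ideal.comap_comap, hzc, Ideal.comap_comap]
    show m₀.comap ((Algebra.TensorProduct.includeRight (R := Γ(Y, Y0)) (A := p.asIdeal.ResidueField)).toRingHom.comp _) = _
    rw [show (Algebra.TensorProduct.includeRight (R := Γ(Y, Y0)) (A := p.asIdeal.ResidueField)).toRingHom.comp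
        (algebraMap Γ(Y, Y0) Γ(X, U0)) = algebraMap _ _ from Algebra.TensorProduct.includeRight.comp_algebraMap]
    exact (m₀.over_def p.asIdeal).symm
  have hgz : g z = f x := by
    show hY0.fromSpec (Spec.map σ z) = f x
    rw [hσz, hp]
  have hqfz : g.QuasiFiniteAt z := by
    haveI : LocallyQuasiFinite hY0.fromSpec := inferInstance
    refine Scheme.Hom.quasiFiniteAt_comp_iff.2 ?_
    rw [Scheme.Hom.quasiFiniteAt_iff_isOpen_singleton_asFiber, ← ((Spec.map σ).fiberHomeo (Spec.map σ z)).isOpen_image]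
    simp only [Set.image_singleton, Scheme.Hom.asFiber, Homeomorph.apply_symm_apply]
    exact (Algebra.quasiFiniteAt_iff_isOpen_singleton_fiber z).1 (hqf z hzc)
  obtain ⟨V, e, u, he, heu, κ, _, W, v, -, -, hW, hcov⟩ :=
    Groth.L20.Weight.exists_isolate g (f x) {z} (fun w hw => by
      rw [Finset.mem_singleton] at hw; subst hw; exact hqfz)
  obtain ⟨w, hw1, hw2⟩ := Scheme.Pullback.exists_preimage_pullback (f := g) (g := e) z u (hgz.trans heu.symm)
  obtain ⟨a, hwa⟩ := hcov w hw2 (by rw [hw1]; exact Finset.mem_singleton_self z)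
  haveI := (hW a).2.1
  let π := (W a).ι ≫ pullback.snd g e
  haveI : IsLocallyNoetherian V := LocallyOfFiniteType.isLocallyNoetherian e
  have hCc : IsClosed (Set.range π) := π.isClosedMap.isClosed_range
  have key : ∀ η : V, η ⤳ u → η ∈ Set.range π := by
    intro η hη
    by_cases hne : η = u
    · exact ⟨⟨w, hwa⟩, hw2.trans hne.symm⟩
    obtain ⟨Wv, t, hWv, ht0, ht1⟩ := Groth.L19.exists_dvr_through hη hne
    haveI := hWv
    have hq0 : (t ≫ e) (closedPoint Wv) = f x := by rw [Scheme.Hom.comp_apply, ht0, heu]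
    have hrange : Set.range (t ≫ e) ⊆ Set.range hY0.fromSpec := by
      rw [hY0.range_fromSpec]
      rintro _ ⟨r, rfl⟩
      exact ((specializes_closedPoint r).map (t ≫ e).continuous).mem_open Y0.2 (by rw [hq0]; exact hxY0)
    obtain ⟨ρ, hρ⟩ : ∃ ρ : Γ(Y, Y0) ⟶ CommRingCat.of Wv, Spec.map ρ ≫ hY0.fromSpec = t ≫ e :=
      ⟨Spec.preimage (IsOpenImmersion.lift hY0.fromSpec (t ≫ e) hrange), by
        rw [Spec.map_preimage, IsOpenImmersion.lift_fac]⟩
    letI : Algebra Γ(Y, Y0) Wv := ρ.hom.toAlgebra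
    have hρp : Spec.map ρ (closedPoint Wv) = p := hY0.fromSpec.isOpenEmbedding.injective (by
      rw [← Scheme.Hom.comp_apply, hρ, hq0, hp])
    let θ : Wv ⊗[Γ(Y, Y0)] Γ(X, U0) →ₐ[Γ(Y, Y0)] Wv ⊗[Γ(Y, Y0)] (Γ(X, U0) ⧸ I) :=
      Algebra.TensorProduct.map (AlgHom.id _ _) (Ideal.Quotient.mkₐ _ I)
    let fR := CommRingCat.ofHom (algebraMap Wv (Wv ⊗[Γ(Y, Y0)] (Γ(X, U0) ⧸ I)))
    let fS := CommRingCat.ofHom (R := Γ(X, U0) ⧸ I) (S := Wv ⊗[Γ(Y, Y0)] (Γ(X, U0) ⧸ I))
      (Algebra.TensorProduct.includeRight (R := Γ(Y, Y0)) (A := Wv)).toRingHom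
    have hsq : Spec.map fS ≫ g = (Spec.map fR ≫ t) ≫ e := by
      rw [Category.assoc, ← hρ]
      simp only [g, ← Spec.map_comp_assoc]
      congr 2
      exact CommRingCat.hom_ext (Algebra.TensorProduct.includeRight.comp_algebraMap (R := Γ(Y, Y0))
        (A := Γ(X, U0) ⧸ I) (B := Wv ⊗[Γ(Y, Y0)] (Γ(X, U0) ⧸ I)))
    let d : Spec (CommRingCat.of (Wv ⊗[Γ(Y, Y0)] (Γ(X, U0) ⧸ I))) ⟶ pullback g e :=
      pullback.lift (Spec.map fS) (Spec.map fR ≫ t) hsq
    obtain ⟨ω, hω1, hω2⟩ := Scheme.Pullback.exists_preimage_pullback (f := π) (g := t) (⟨w, hwa⟩ : (W a).toScheme)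
      (closedPoint Wv) ((hw2 : π ⟨w, hwa⟩ = u).trans ht0.symm)
    have hlift : (pullback.fst π t ≫ (W a).ι ≫ pullback.fst g e) ≫ Spec.map σ =
        pullback.snd π t ≫ Spec.map ρ := by
      rw [← cancel_mono hY0.fromSpec]
      simp only [Category.assoc, hρ]
      rw [show pullback.snd π t ≫ t ≫ e = pullback.fst π t ≫ π ≫ e from
        (pullback.condition_assoc e).symm]
      simp only [π, Category.assoc, ← pullback.condition (f := g) (g := e)]
      rfl
    let c : pullback π t ⟶ Spec (CommRingCat.of (Wv ⊗[Γ(Y, Y0)] (Γ(X, U0) ⧸ I))) :=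
      pullback.lift (pullback.snd π t) (pullback.fst π t ≫ (W a).ι ≫ pullback.fst g e) hlift.symm ≫
        (pullbackSpecIso Γ(Y, Y0) Wv (Γ(X, U0) ⧸ I)).hom
    have hcR : c ≫ Spec.map fR = pullback.snd π t := by
      simp only [c, fR, Category.assoc, ← pullbackSpecIso_inv_fst' Γ(Y, Y0) Wv (Γ(X, U0) ⧸ I), Iso.hom_inv_id_assoc]
      exact pullback.lift_fst _ _ _
    have hcS : c ≫ Spec.map fS = pullback.fst π t ≫ (W a).ι ≫ pullback.fst g e := by
      simp only [c, fS, Category.assoc]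
      erw [pullbackSpecIso_hom_snd]
      exact pullback.lift_snd _ _ _
    have hcd : c ≫ d = pullback.fst π t ≫ (W a).ι := by
      refine pullback.hom_ext ?_ ?_
      · rw [Category.assoc, pullback.lift_fst, hcS, Category.assoc]
      · rw [Category.assoc, pullback.lift_snd, ← Category.assoc, hcR, ← pullback.condition, Category.assoc]
    let ms : PrimeSpectrum (Wv ⊗[Γ(Y, Y0)] (Γ(X, U0) ⧸ I)) := c ω
    have hdms : d ms = w := by
      show d (c ω) = w
      rw [← Scheme.Hom.comp_apply, hcd, Scheme.Hom.comp_apply, hω1]; rfl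
    have hmsR : ms.asIdeal.comap (algebraMap Wv _) = maximalIdeal Wv := by
      have : Spec.map fR (c ω) = closedPoint Wv := by rw [← Scheme.Hom.comp_apply, hcR, hω2]
      exact congrArg PrimeSpectrum.asIdeal this
    have hmsS : ms.asIdeal.comap Algebra.TensorProduct.includeRight.toRingHom = z.asIdeal := by
      have : Spec.map fS (c ω) = z := by
        rw [← Scheme.Hom.comp_apply, hcS, Scheme.Hom.comp_apply, hω1]
        exact (Scheme.Hom.comp_apply _ _ _).trans hw1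
      exact congrArg PrimeSpectrum.asIdeal this
    have hθs : Function.Surjective θ := TensorProduct.map_surjective Function.surjective_id Ideal.Quotient.mk_surjective
    have hkerθ : RingHom.ker θ = I.map (Algebra.TensorProduct.includeRight (R := Γ(Y, Y0)) (A := Wv)) := by
      have := Algebra.TensorProduct.lTensor_ker (A := Wv) (Ideal.Quotient.mkₐ Γ(Y, Y0) I) Ideal.Quotient.mk_surjective
      rw [this, show RingHom.ker (Ideal.Quotient.mkₐ Γ(Y, Y0) I) = I from Ideal.mk_ker]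
    let m : Ideal (Wv ⊗[Γ(Y, Y0)] Γ(X, U0)) := ms.asIdeal.comap θ.toRingHom
    haveI : m.IsPrime := Ideal.comap_isPrime _ _
    have hθR : ∀ r : Wv, θ (algebraMap Wv _ r) = algebraMap Wv _ r := fun r => by simp [θ]
    have hθS : ∀ b : Γ(X, U0), θ ((1 : Wv) ⊗ₜ b) = (1 : Wv) ⊗ₜ Ideal.Quotient.mk I b := fun b => by simp [θ]
    have hmR : m.comap (algebraMap Wv _) = maximalIdeal Wv := by
      rw [← hmsR]; ext r; show θ (algebraMap Wv _ r) ∈ ms.asIdeal ↔ _; rw [hθR]; rfl
    have hmB : m.comap Algebra.TensorProduct.includeRight.toRingHom = mB := by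
      rw [← hzc, ← hmsS]; ext b; show θ ((1 : Wv) ⊗ₜ b) ∈ ms.asIdeal ↔ _; rw [hθS]; rfl
    have hsm' : ∀ b ∈ s, (1 : Wv) ⊗ₜ[Γ(Y, Y0)] b ∈ m := fun b hb => by
      show θ _ ∈ ms.asIdeal
      rw [hθS, Ideal.Quotient.eq_zero_iff_mem.2 (Ideal.subset_span hb), TensorProduct.tmul_zero]
      exact zero_mem _
    obtain ⟨ϖ, hϖ⟩ := IsDiscreteValuationRing.exists_irreducible Wv
    haveI : Algebra.QuasiFiniteAt Γ(Y, Y0) z.asIdeal := hqf z hzc
    haveI : Algebra.QuasiFiniteAt Wv ms.asIdeal := Algebra.QuasiFiniteAt.baseChange z.asIdeal ms.asIdeal hmsS.symm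
    have hmap : ∀ r : Ideal (Wv ⊗[Γ(Y, Y0)] Γ(X, U0)), r.IsPrime → (∀ b ∈ s, (1 : Wv) ⊗ₜ[Γ(Y, Y0)] b ∈ r) →
        (r.map θ.toRingHom).IsPrime ∧ (r.map θ.toRingHom).comap θ.toRingHom = r := by
      intro r hr hsr
      have hker : RingHom.ker θ.toRingHom ≤ r := by
        show RingHom.ker θ ≤ r
        rw [hkerθ, Ideal.map_span, Ideal.span_le]
        rintro _ ⟨b, hb, rfl⟩
        exact hsr b hb
      exact ⟨Ideal.map_isPrime_of_surjective hθs hker, (Ideal.comap_map_of_surjective _ hθs r).trans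
        (sup_eq_left.2 (RingHom.ker_eq_comap_bot θ.toRingHom ▸ hker))⟩
    have hle' : ∀ r : Ideal (Wv ⊗[Γ(Y, Y0)] Γ(X, U0)), r ≤ m → r.map θ.toRingHom ≤ ms.asIdeal :=
      fun r hr => Ideal.map_le_iff_le_comap.2 hr
    obtain ⟨r, hr, hrm, hsr, hϖr⟩ := exists_generization p.asIdeal (congrArg PrimeSpectrum.asIdeal hρp)
      isOpenMap_baseChange ϖ hϖ.ne_zero (hϖ.maximalIdeal_eq ▸ Ideal.mem_span_singleton_self ϖ) s m₀ l hlen hlast m
      hmR hmB hsm' (fun r hr hle hϖr hsr => by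
        obtain ⟨hrp, hrc⟩ := hmap r hr hsr
        haveI := hrp
        have e : r.map θ.toRingHom = ms.asIdeal := by
          refine Algebra.QuasiFiniteAt.eq_of_le_of_under_eq (R := Wv) (hle' r hle) ?_
          rw [Ideal.under_def, Ideal.under_def, hmsR]
          refine ((IsLocalRing.maximalIdeal.isMaximal Wv).eq_of_le (Ideal.IsPrime.ne_top inferInstance) ?_).symm
          rw [hϖ.maximalIdeal_eq, Ideal.span_le, Set.singleton_subset_iff]
          show algebraMap Wv _ ϖ ∈ r.map θ.toRingHom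
          rw [← hθR]
          exact Ideal.mem_map_of_mem _ hϖr
        rw [← hrc, e])
    obtain ⟨hrp, hrc⟩ := hmap r hr hsr
    let rs : PrimeSpectrum (Wv ⊗[Γ(Y, Y0)] (Γ(X, U0) ⧸ I)) := ⟨r.map θ.toRingHom, hrp⟩
    have hspec : d rs ⤳ w := hdms ▸ ((PrimeSpectrum.le_iff_specializes rs ms).1 (hle' r hrm)).map d.continuous
    have hmem : d rs ∈ W a := hspec.mem_open (W a).2 hwa
    refine ⟨⟨d rs, hmem⟩, ?_⟩
    show pullback.snd g e (d rs) = η
    rw [← Scheme.Hom.comp_apply, pullback.lift_snd, Scheme.Hom.comp_apply]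
    refine (congrArg t ?_).trans ((Scheme.Hom.comp_apply _ _ _).symm.trans ht1)
    refine PrimeSpectrum.ext ?_
    show rs.asIdeal.comap (algebraMap Wv _) = (maximalIdeal _).comap Wv.subtype
    rw [IsLocalRing.maximalIdeal_eq_bot, ← RingHom.ker_eq_comap_bot,
      (RingHom.injective_iff_ker_eq_bot _).1 Subtype.val_injective]
    by_contra hne'
    haveI := hrp
    have hmax : rs.asIdeal.comap (algebraMap Wv _) = maximalIdeal Wv :=
      IsLocalRing.eq_maximalIdeal (Ideal.IsPrime.isMaximal inferInstance hne')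
    refine hϖr ?_
    rw [← hrc]
    show θ (algebraMap Wv _ ϖ) ∈ rs.asIdeal
    rw [hθR]
    show ϖ ∈ rs.asIdeal.comap (algebraMap Wv _)
    rw [hmax]
    exact hϖ.maximalIdeal_eq ▸ Ideal.mem_span_singleton_self ϖ
  obtain ⟨O, huO, hOC⟩ := exists_open_of_generizations hCc key
  refine exists_refinement_of_piece f (f x) e u heu (pullback.snd g e) (pullback.fst g e ≫ k0) ?_ (W a) O huO
    (fun v hv => ?_)
  · rw [Category.assoc, hk0, pullback.condition]
  · obtain ⟨⟨w', hw'⟩, hw''⟩ := hOC hv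
    exact ⟨w', hw', hw''⟩

end Groth.L10.EtDescent
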